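import Mathlib.RingTheory.MvPolynomial.Homogeneous
import Mathlib.Algebra.Order.Antidiag.FinsuppEquiv
import Mathlib.LinearAlgebra.Dimension.Constructions
import Mathlib.LinearAlgebra.FiniteDimensional.Basic

/-!
# The dimension of the space of forms
-/

set_option autoImplicit false

namespace K713.Count

open MvPolynomial

theorem card_degree (n d : ℕ) :
    Nat.card {e : Fin n →₀ ℕ // e.degree = d} = (n + d - 1).choose d := by
  have h := Finset.card_finsuppAntidiag_nat_eq_choose (s := (Finset.univ : Finset (Fin n))) d
  rw [Finset.card_univ, Fintype.card_fin] at h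
  rw [← h, ← Nat.card_eq_finsetCard]
  refine Nat.card_congr (Equiv.subtypeEquivRight fun e => ?_)
  rw [Finset.mem_finsuppAntidiag, Finsupp.degree_eq_sum]
  simp

instance finite_degree (n d : ℕ) : Finite {e : Fin n →₀ ℕ // e.degree = d} :=
  (Finsupp.finite_of_degree_eq d).to_subtype

theorem finrank_homogeneous (k : Type*) [Field k] (n d : ℕ) :
    Module.finrank k (homogeneousSubmodule (Fin n) k d) = (n + d - 1).choose d := by
  have h : homogeneousSubmodule (Fin n) k d =
    AddMonoidAlgebra.supported k k {m : Fin n →₀ ℕ | m.degree = d} :=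
    homogeneousSubmodule_eq_finsupp_supported (Fin n) k d
  rw [h, (AddMonoidAlgebra.supportedEquivFinsupp (R := k) (S := k)
    {m : Fin n →₀ ℕ | m.degree = d}).finrank_eq]
  rw [Module.finrank, rank_finsupp_self, Cardinal.toNat_lift, ← card_degree]
  rfl

instance finite_homogeneous (k : Type*) [Field k] (n d : ℕ) :
    Module.Finite k (homogeneousSubmodule (Fin n) k d) := by
  have h : homogeneousSubmodule (Fin n) k d =
    AddMonoidAlgebra.supported k k {m : Fin n →₀ ℕ | m.degree = d} :=
    homogeneousSubmodule_eq_finsupp_supported (Fin n) k d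
  rw [h]
  have : Finite {m : Fin n →₀ ℕ | m.degree = d} := finite_degree n d
  exact Module.Finite.equiv (AddMonoidAlgebra.supportedEquivFinsupp (R := k) (S := k)
    {m : Fin n →₀ ℕ | m.degree = d}).symm

end K713.Count
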