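import Mathlib.RingTheory.MvPolynomial.Homogeneous
import Mathlib.Algebra.Polynomial.RingDivision
import Mathlib.Algebra.MvPolynomial.NoZeroDivisors

/-!
# Factors of homogeneous polynomials are homogeneous
-/

set_option autoImplicit false

namespace K713.HomFactor

open MvPolynomial

variable {σ R : Type*} [CommRing R]

/-- The substitution `x ↦ t x`. -/
noncomputable def tsub : MvPolynomial σ R →ₐ[R] Polynomial (MvPolynomial σ R) :=
  aeval fun i => Polynomial.C (X i) * Polynomial.X

theorem tsub_monomial (e : σ →₀ ℕ) (c : R) :
    tsub (monomial e c) = Polynomial.C (monomial e c) * Polynomial.X ^ e.degree := by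
  rw [tsub, aeval_monomial, monomial_eq, map_mul, mul_assoc]
  congr 1
  rw [Finsupp.degree_apply, Finsupp.prod, Finsupp.prod, ← Finset.prod_pow_eq_pow_sum, map_prod,
    ← Finset.prod_mul_distrib]
  exact Finset.prod_congr rfl fun i _ => by rw [mul_pow, map_pow]

theorem coeff_tsub (f : MvPolynomial σ R) (n : ℕ) :
    (tsub f).coeff n = homogeneousComponent n f := by
  induction f using MvPolynomial.induction_on' with
  | monomial e b =>
    rw [tsub_monomial, Polynomial.coeff_C_mul_X_pow,
      homogeneousComponent_of_mem (n := e.degree)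
      ((mem_homogeneousSubmodule _ _).2 (isHomogeneous_monomial _ rfl))]
  | add p q hp hq => rw [map_add, Polynomial.coeff_add, hp, hq, map_add]

theorem tsub_of_isHomogeneous {f : MvPolynomial σ R} {d : ℕ} (hf : f.IsHomogeneous d) :
    tsub f = Polynomial.C f * Polynomial.X ^ d := by
  ext1 n
  rw [coeff_tsub, Polynomial.coeff_C_mul_X_pow,
    homogeneousComponent_of_mem ((mem_homogeneousSubmodule _ _).2 hf)]

theorem tsub_injective : Function.Injective (tsub : MvPolynomial σ R →ₐ[R] _) := by
  intro f g h
  rw [← sum_homogeneousComponent f, ← sum_homogeneousComponent g]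
  have h1 : ∀ n, homogeneousComponent n f = homogeneousComponent n g := fun n => by
    rw [← coeff_tsub, ← coeff_tsub, h]
  have h2 : ∀ (f : MvPolynomial σ R) (N : ℕ), f.totalDegree ≤ N →
      ∑ i ∈ Finset.range (f.totalDegree + 1), homogeneousComponent i f =
      ∑ i ∈ Finset.range (N + 1), homogeneousComponent i f := by
    intro f N hN
    refine Finset.sum_subset (Finset.range_mono (by omega)) fun i _ hi => ?_
    rw [Finset.mem_range, not_lt] at hi
    exact homogeneousComponent_eq_zero _ _ (by omega)
  rw [h2 f _ (le_max_left f.totalDegree g.totalDegree), h2 g _ (le_max_right f.totalDegree g.totalDegree)]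
  exact Finset.sum_congr rfl fun i _ => h1 i

variable [IsDomain R]

/-- Factors of a nonzero homogeneous polynomial over a domain are homogeneous. -/
theorem exists_isHomogeneous {f g : MvPolynomial σ R} {d : ℕ} (hfg : (f * g).IsHomogeneous d)
    (h0 : f * g ≠ 0) : ∃ a b : ℕ, a + b = d ∧ f.IsHomogeneous a ∧ g.IsHomogeneous b := by
  have hf0 : f ≠ 0 := left_ne_zero_of_mul h0
  have hg0 : g ≠ 0 := right_ne_zero_of_mul h0
  have hF0 : tsub f ≠ 0 := fun h => hf0 (tsub_injective (h.trans (map_zero _).symm))
  have hG0 : tsub g ≠ 0 := fun h => hg0 (tsub_injective (h.trans (map_zero _).symm))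
  have h1 : tsub f * tsub g = Polynomial.C (f * g) * Polynomial.X ^ d := by
    rw [← map_mul]; exact tsub_of_isHomogeneous hfg
  have h2 : (tsub f).natDegree + (tsub g).natDegree = d := by
    rw [← Polynomial.natDegree_mul hF0 hG0, h1, Polynomial.natDegree_C_mul_X_pow _ _ h0]
  have h3 : (tsub f).natTrailingDegree + (tsub g).natTrailingDegree = d := by
    rw [← Polynomial.natTrailingDegree_mul hF0 hG0, h1, Polynomial.C_mul_X_pow_eq_monomial,
      Polynomial.natTrailingDegree_monomial h0]
  have h4 := Polynomial.natTrailingDegree_le_natDegree (tsub f)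
  have h5 := Polynomial.natTrailingDegree_le_natDegree (tsub g)
  have key : ∀ q : MvPolynomial σ R, (tsub q).natTrailingDegree = (tsub q).natDegree →
      q.IsHomogeneous (tsub q).natDegree := by
    intro q hq
    have h6 : q = homogeneousComponent (tsub q).natDegree q := by
      apply tsub_injective
      ext1 n
      rw [tsub_of_isHomogeneous (homogeneousComponent_isHomogeneous _ q), Polynomial.coeff_C_mul_X_pow]
      split_ifs with h
      · rw [h, coeff_tsub]
      · rcases lt_or_gt_of_ne h with h | h
        · exact Polynomial.coeff_eq_zero_of_lt_natTrailingDegree (hq ▸ h)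
        · exact Polynomial.coeff_eq_zero_of_natDegree_lt h
    have h7 := homogeneousComponent_isHomogeneous (tsub q).natDegree q
    rwa [← h6] at h7
  exact ⟨_, _, h2, key f (by omega), key g (by omega)⟩

end K713.HomFactor
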