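import Groth.Agent.Lefpen.H703.Elim
import Groth.Agent.Lefpen.H703.NondegOpen
import Mathlib.LinearAlgebra.Basis.VectorSpace

/-!
# Closedness of projections of families of linear subspaces

* `pm_bilin`: bilinear maps are polynomial maps.
* `isZOpen_not_mem_range`: if `M e : B → W` is a linear map depending polynomially on `e`, injective for `e ≠ 0` and
  homogeneous in `e`, then the set of `w` not in the range of any `M e`, `e ≠ 0`, is Zariski open.
-/

set_option autoImplicit false

universe u

namespace K713.RangeOpen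

open LefPen Groth.Agent.Lefpen.H703.ZOpen Groth.Agent.Lefpen.H703.Elim

variable {k : Type u} [Field k]
variable {V W E E' B : Type u} [AddCommGroup V] [Module k V] [AddCommGroup W] [Module k W]
  [AddCommGroup E] [Module k E] [AddCommGroup E'] [Module k E'] [AddCommGroup B] [Module k B]

theorem pm_bilin [FiniteDimensional k E] (β : E →ₗ[k] E' →ₗ[k] W) {φ : V → E} {ψ : V → E'}
    (hφ : IsPolyMap k φ) (hψ : IsPolyMap k ψ) : IsPolyMap k (fun v => β (φ v) (ψ v)) := by
  intro l
  let b := Module.finBasis k E
  have h : (fun v => l (β (φ v) (ψ v))) = fun v => ∑ i, b.repr (φ v) i * l (β (b i) (ψ v)) := by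
    ext v
    conv_lhs => rw [← b.sum_repr (φ v), map_sum, LinearMap.sum_apply, map_sum]
    refine Finset.sum_congr rfl fun i _ => ?_
    rw [map_smul, LinearMap.smul_apply, map_smul, smul_eq_mul]
  rw [h]
  refine pf_sum _ fun i _ => pf_mul ?_ ?_
  · exact hφ ((Finsupp.lapply i).comp b.repr.toLinearMap)
  · exact pm_comp (isPolyMap_linear (β (b i))) hψ l

theorem exists_dual_det {r : ℕ} {v : Fin r → W} (hv : LinearIndependent k v) :
    ∃ φ : Fin r → W →ₗ[k] k, (Matrix.of fun i j => φ i (v j)).det ≠ 0 := by
  classical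
  have h1 : Function.Injective (Fintype.linearCombination k v) := by
    exact linearIndependent_iff_injective_fintypeLinearCombination.1 hv
  obtain ⟨g, hg⟩ := LinearMap.exists_leftInverse_of_injective _ (LinearMap.ker_eq_bot.2 h1)
  refine ⟨fun i => (LinearMap.proj i).comp g, ?_⟩
  have h2 : (Matrix.of fun i j => ((LinearMap.proj i).comp g) (v j)) = (1 : Matrix (Fin r) (Fin r) k) := by
    ext i j
    have h3 : v j = Fintype.linearCombination k v (Pi.single j 1) := by
      rw [Fintype.linearCombination_apply_single, one_smul]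
    have h4 : g (v j) = Pi.single j 1 := by
      rw [h3]; exact LinearMap.congr_fun hg _
    change (g (v j)) i = _
    rw [h4, Pi.single_apply, Matrix.one_apply]
  rw [h2, Matrix.det_one]
  exact one_ne_zero

theorem linearIndependent_of_det {r : ℕ} {v : Fin r → W} (φ : Fin r → W →ₗ[k] k)
    (h : (Matrix.of fun i j => φ i (v j)).det ≠ 0) : LinearIndependent k v := by
  classical
  rw [Fintype.linearIndependent_iff]
  intro g hg
  have h1 : (Matrix.of fun i j => φ i (v j)).mulVec g = 0 := by
    ext i
    rw [Matrix.mulVec, dotProduct, Pi.zero_apply]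
    have := congrArg (φ i) hg
    rw [map_sum, map_zero] at this
    rw [← this]
    refine Finset.sum_congr rfl fun j _ => ?_
    rw [map_smul, smul_eq_mul, mul_comm, Matrix.of_apply]
  exact congrFun (Matrix.eq_zero_of_mulVec_eq_zero h h1)

/-- Linear independence is a Zariski-open condition. -/
theorem isZOpen_linearIndependent {r : ℕ} (v : Fin r → V → W) (hv : ∀ i, IsPolyMap k (v i)) :
    IsZOpen k {x : V | LinearIndependent k fun i => v i x} := by
  intro x hx
  obtain ⟨φ, hφ⟩ := exists_dual_det hx
  exact ⟨fun x => (Matrix.of fun i j => φ i (v j x)).det, isPolyFun_det fun i j => hv j (φ i), hφ,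
    fun w hw => linearIndependent_of_det φ hw⟩

theorem isZOpen_not_mem_range [IsAlgClosed k] [FiniteDimensional k E] [FiniteDimensional k B]
    (M : E → B →ₗ[k] W) (hM : ∀ b, IsPolyMap k fun e => M e b) (hinj : ∀ e, e ≠ 0 → Function.Injective (M e))
    (hcone : ∀ e, ∀ c : k, c ≠ 0 → LinearMap.range (M (c • e)) = LinearMap.range (M e)) :
    IsZOpen k {w : W | ∀ e, e ≠ 0 → w ∉ LinearMap.range (M e)} := by
  classical
  let b := Module.finBasis k B
  let v : Fin (Module.finrank k B + 1) → E × W → W :=
    Fin.cons (fun p => p.2) fun i p => M p.1 (b i)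
  have hv : ∀ i, IsPolyMap k (v i) := by
    intro i
    refine Fin.cases ?_ (fun i => ?_) i
    · exact isPolyMap_snd
    · exact pm_comp (φ := fun e => M e (b i)) (hM (b i)) isPolyMap_fst
  have hv' : ∀ p : E × W, (fun i => v i p) = Fin.cons p.2 (fun i => M p.1 (b i)) := by
    intro p
    ext i
    refine Fin.cases ?_ (fun i => ?_) i <;> rfl
  have key : ∀ p : E × W, p.1 ≠ 0 →
      (LinearIndependent k (fun i => v i p) ↔ p.2 ∉ LinearMap.range (M p.1)) := by
    intro p hp
    rw [hv', linearIndependent_finCons]
    have h1 : LinearIndependent k (fun i => M p.1 (b i)) :=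
      b.linearIndependent.map' _ (LinearMap.ker_eq_bot.2 (hinj p.1 hp))
    have h2 : Submodule.span k (Set.range fun i => M p.1 (b i)) = LinearMap.range (M p.1) := by
      have : (Set.range fun i => M p.1 (b i)) = M p.1 '' Set.range b := by
        rw [← Set.range_comp]; rfl
      rw [this, ← Submodule.map_span, b.span_eq, Submodule.map_top]
    rw [h2]
    exact ⟨fun h => h.2, fun h => ⟨h1, h⟩⟩
  have h0 := isZOpen_linearIndependent v hv
  have h1 := isZOpen_forall_ne_zero' (k := k) (E := E) (V := W)
    (O := {p : E × W | p.2 ∉ LinearMap.range (M p.1)}) (by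
      intro e w he hw
      obtain ⟨F, hF, hF0, hFO⟩ := h0 (e, w) ((key (e, w) he).2 hw)
      exact ⟨F, hF, hF0, fun e' w' he' hFw => (key (e', w') he').1 (hFO _ hFw)⟩) (by
      intro e w c hc h
      change w ∉ LinearMap.range (M (c • e))
      rw [hcone e c hc]
      exact h)
  exact h1

end K713.RangeOpen
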