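import Groth.Agent.Fano.K255.PfDef
import Groth.Agent.Fano.K714.Irr
import Groth.Agent.Fano.K714.Frames

/-!
# Pfaffian representations of a cubic threefold: the auxiliary spaces of decompositions (definitions for S16528)

`E k` is the dual of `k^5`, `T` the trilinear form of the cubic.
* `S4 T` : `(h, v, P, y)`, `h ≠ 0`, `T x x x = ∑ v_i P_ij y_j` on `h = 0`.
* `DDh T` : `(h, N)`, `h ≠ 0`, `T x x x = det N` on `h = 0`.
* `Sol13 T` : `(h, u, v, c, d)`, `T x x x = h (u · d) + det (u; v; c)`.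
-/

set_option autoImplicit false

universe u

namespace K713.PP

variable {k : Type u} [Field k]

/-- linear forms on `k^5` -/
abbrev E (k : Type u) [Field k] : Type u := Module.Dual k (Fin 5 → k)

/-- The determinant of the matrix with rows `a, b, c`. -/
def det3 {R : Type*} [CommRing R] (a b c : Fin 3 → R) : R :=
  a 0 * (b 1 * c 2 - b 2 * c 1) - a 1 * (b 0 * c 2 - b 2 * c 0) + a 2 * (b 0 * c 1 - b 1 * c 0)

theorem det3_eq_det {R : Type*} [CommRing R] (N : Matrix (Fin 3) (Fin 3) R) : det3 (N 0) (N 1) (N 2) = N.det := by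
  rw [Matrix.det_fin_three, det3]
  ring

variable (T : (Fin 5 → k) →ₗ[k] (Fin 5 → k) →ₗ[k] (Fin 5 → k) →ₗ[k] k)

/-- `(h, v, P, y)`: on `h = 0` the cubic is `∑ v_i P_ij y_j`. -/
def S4 : Set (E k × (Fin 2 → E k) × (Fin 2 → Fin 2 → E k) × (Fin 2 → E k)) :=
  {p | p.1 ≠ 0 ∧ ∀ x, p.1 x = 0 → T x x x = ∑ i, ∑ j, p.2.1 i x * p.2.2.1 i j x * p.2.2.2 j x}

/-- `(h, N)`: on `h = 0` the cubic is `det N`. -/
def DDh : Set (E k × (Fin 3 → Fin 3 → E k)) :=
  {p | p.1 ≠ 0 ∧ ∀ x, p.1 x = 0 → T x x x = (Matrix.of fun i j => p.2 i j x).det}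

/-- `(h, u, v, c, d)`: the cubic is `h (u · d) + det (u; v; c)`. -/
def Sol13 : Set (E k × (Fin 3 → E k) × (Fin 3 → E k) × (Fin 3 → E k) × (Fin 3 → E k)) :=
  {q | ∀ x, T x x x = q.1 x * ∑ i, q.2.1 i x * q.2.2.2.2 i x +
    det3 (fun i => q.2.1 i x) (fun i => q.2.2.1 i x) (fun i => q.2.2.2.1 i x)}

end K713.PP
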