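import Groth.Agent.Fano.K713.HomFactor
import Groth.Agent.Fano.K714.Zeros
import Mathlib.RingTheory.Polynomial.UniqueFactorization
import Mathlib.RingTheory.MvPolynomial.IrreducibleQuadratic

/-!
# Binary forms over an algebraically closed field
-/

set_option autoImplicit false

namespace K713.Binary

open MvPolynomial

variable {k : Type*} [Field k] [IsAlgClosed k]

theorem exists_zero {G : MvPolynomial (Fin 2) k} {e : ℕ} (hG : G.IsHomogeneous e) (he : 0 < e) :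
    ∃ x : Fin 2 → k, x ≠ 0 ∧ eval x G = 0 := by
  obtain ⟨x, hx, h⟩ := K714.Zeros.exists_ne_zero (ι := Fin 1) (N := 2) (by simp) (fun _ => e) (fun _ => he)
    (fun _ => G) (fun _ => hG)
  exact ⟨x, hx, h 0⟩

theorem isUnit_of_isHomogeneous_zero {σ : Type*} {G : MvPolynomial σ k} (hG : G.IsHomogeneous 0) (h0 : G ≠ 0) :
    IsUnit G := by
  rw [isUnit_iff_eq_C_of_isReduced]
  have h4 := totalDegree_eq_zero_iff_eq_C.1 (hG.totalDegree h0)
  refine ⟨_, ?_, h4⟩
  rw [isUnit_iff_ne_zero]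
  intro h5
  rw [h5, map_zero] at h4
  exact h0 h4

/-- Binary forms without a common zero are relatively prime. -/
theorem isRelPrime_of_no_common_zero {G₁ G₂ : MvPolynomial (Fin 2) k} {e₁ e₂ : ℕ} (h₁ : G₁.IsHomogeneous e₁)
    (h₂ : G₂.IsHomogeneous e₂) (h : ∀ x : Fin 2 → k, x ≠ 0 → eval x G₁ = 0 → eval x G₂ = 0 → False) :
    IsRelPrime G₁ G₂ := by
  have key : ∀ (d G G' : MvPolynomial (Fin 2) k) (e : ℕ), G.IsHomogeneous e → G ≠ 0 → d ∣ G → d ∣ G' →
      (∀ x : Fin 2 → k, x ≠ 0 → eval x G = 0 → eval x G' = 0 → False) → IsUnit d := by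
    rintro d G G' e hG hG0 ⟨c, hc⟩ ⟨c', hc'⟩ h
    rw [hc] at hG hG0
    obtain ⟨a, b, -, ha, -⟩ := HomFactor.exists_isHomogeneous hG hG0
    rcases Nat.eq_zero_or_pos a with rfl | ha0
    · exact isUnit_of_isHomogeneous_zero ha (left_ne_zero_of_mul hG0)
    · obtain ⟨x, hx, hx0⟩ := exists_zero ha ha0
      exact (h x hx (by rw [hc, map_mul, hx0, zero_mul]) (by rw [hc', map_mul, hx0, zero_mul])).elim
  intro d hd₁ hd₂
  by_cases h0 : G₁ = 0
  · by_cases h0' : G₂ = 0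
    · exfalso
      refine h (fun _ => 1) (fun h => one_ne_zero (congrFun h 0)) ?_ ?_
      · rw [h0, map_zero]
      · rw [h0', map_zero]
    · exact key d G₂ G₁ e₂ h₂ h0' hd₂ hd₁ fun x hx h1 h2 => h x hx h2 h1
  · exact key d G₁ G₂ e₁ h₁ h0 hd₁ hd₂ h

/-- The syzygies of low degree of two binary forms of the same degree without common zeros vanish. -/
theorem eq_zero_of_syzygy {G₁ G₂ l₁ l₂ : MvPolynomial (Fin 2) k} {e c : ℕ} (h₁ : G₁.IsHomogeneous e)
    (h₂ : G₂.IsHomogeneous e) (hl₁ : l₁.IsHomogeneous c) (hl₂ : l₂.IsHomogeneous c) (hc : c < e)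
    (h : ∀ x : Fin 2 → k, x ≠ 0 → eval x G₁ = 0 → eval x G₂ = 0 → False)
    (hs : l₁ * G₁ + l₂ * G₂ = 0) : l₁ = 0 ∧ l₂ = 0 := by
  have hrel := isRelPrime_of_no_common_zero h₁ h₂ h
  have key : ∀ (G G' l l' : MvPolynomial (Fin 2) k), G'.IsHomogeneous e → l.IsHomogeneous c → G' ≠ 0 →
      IsRelPrime G G' → l * G + l' * G' = 0 → l = 0 := by
    intro G G' l l' hG' hl hG'0 hrel hs
    have h1 : G' ∣ l * G := ⟨-l', by linear_combination hs⟩
    have h2 : G' ∣ l := hrel.symm.dvd_of_dvd_mul_right h1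
    by_contra hl0
    obtain ⟨q, hq⟩ := h2
    have h3 := hl.totalDegree hl0
    have hq0 : q ≠ 0 := by
      rintro rfl
      exact hl0 (by rw [hq, mul_zero])
    rw [hq, totalDegree_mul_of_isDomain hG'0 hq0, hG'.totalDegree hG'0] at h3
    omega
  have hne : G₁ ≠ 0 ∧ G₂ ≠ 0 := by
    constructor
    · rintro rfl
      obtain ⟨x, hx, hx0⟩ := exists_zero h₂ (by omega)
      exact h x hx (map_zero _) hx0
    · rintro rfl
      obtain ⟨x, hx, hx0⟩ := exists_zero h₁ (by omega)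
      exact h x hx hx0 (map_zero _)
  exact ⟨key G₁ G₂ l₁ l₂ h₂ hl₁ hne.2 hrel hs,
    key G₂ G₁ l₂ l₁ h₁ hl₂ hne.1 hrel.symm (by rw [add_comm]; exact hs)⟩

end K713.Binary
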