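import Groth.Agent.Lefpen.H702.PolyFun

/-!
# Polynomial functions in coordinates
-/

set_option autoImplicit false
universe u

namespace K713.PolyCoord

open LefPen Groth.Agent.Lefpen.H702.PolyFun MvPolynomial

variable {k : Type u} [Field k]

/-- polynomial functions in coordinates -/
theorem exists_polynomial_of_isPolyFun {V : Type u} [AddCommGroup V] [Module k V] {σ : Type} [Fintype σ]
    (b : V ≃ₗ[k] (σ → k)) {f : V → k} (hf : IsPolyFun k f) :
    ∃ φ : MvPolynomial σ k, ∀ v, f v = aeval (b v) φ := by
  classical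
  obtain ⟨p, hp⟩ := IsPolyFun.exists_mvPolynomial hf
  refine ⟨aeval (fun l : Module.Dual k V => ∑ i, C (l (b.symm (Pi.single i 1))) * X i) p, fun v => ?_⟩
  rw [hp v, ← AlgHom.comp_apply, comp_aeval]
  congr 2
  funext l
  rw [map_sum]
  simp only [map_mul, aeval_X]
  have h1 : v = ∑ i, b v i • b.symm (Pi.single i 1) := by
    apply b.injective
    rw [map_sum]
    simp only [map_smul, LinearEquiv.apply_symm_apply]
    ext e'
    simp [Finset.sum_apply, Pi.single_apply]
  conv_lhs => rw [h1]
  rw [map_sum]
  refine Finset.sum_congr rfl fun i _ => ?_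
  rw [map_smul, smul_eq_mul, mul_comm]
  simp

end K713.PolyCoord
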