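import Groth.Agent.Fano.K713.LineDom
import Groth.Agent.Fano.K713.PolyCoord

/-!
# Every hypersurface of degree `1 ≤ d ≤ 2n - 3` in `P^n` contains a line (characteristic zero)
-/

set_option autoImplicit false
universe u

namespace K713.LineExists

open LefPen Groth.Agent.Lefpen.H701 Groth.Agent.Lefpen.H702.PolyFun K713.Chart MvPolynomial K714.LinSp K713.LineOpen K713.PolyCoord
  K713.LineDom

variable {k : Type u} [Field k]

/-- the exponent of `x_0` -/
def aa (d : ℕ) (i : ℕ) : ℕ := min (2 * (i - 2)) (d - 1)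

/-- The special form vanishing on the standard line. -/
noncomputable def H0 (k : Type u) [Field k] (m d : ℕ) : MvPolynomial (Fin (m + 3)) k :=
  ∑ i : Fin (m + 3), if 2 ≤ i.1 then X i * (X 0 ^ aa d i.1 * X 1 ^ (d - 1 - aa d i.1)) else 0

theorem H0_isHomogeneous {m d : ℕ} (hd : 1 ≤ d) : (H0 k m d).IsHomogeneous d := by
  refine IsHomogeneous.sum _ _ _ fun i _ => ?_
  split_ifs with hi
  · have h1 := (isHomogeneous_X k i).mul (((isHomogeneous_X k (0 : Fin (m + 3))).pow (aa d i.1)).mul
      ((isHomogeneous_X k (1 : Fin (m + 3))).pow (d - 1 - aa d i.1)))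
    have h2 : aa d i.1 ≤ d - 1 := min_le_right _ _
    convert h1 using 1
    omega
  · exact isHomogeneous_zero _ _ _

theorem coeff_H0 {m d : ℕ} (s : FI (m + 2) d) (hs : ¬ ∃ i : Fin (m + 3), 2 ≤ i.1 ∧ s.1 i ≠ 0) :
    coeff s.1 (H0 k m d) = 0 := by
  classical
  rw [H0, coeff_sum]
  refine Finset.sum_eq_zero fun i _ => ?_
  split_ifs with hi
  · rw [coeff_X_mul', if_neg]
    intro h
    exact hs ⟨i, hi, Finsupp.mem_support_iff.1 h⟩
  · exact coeff_zero _

theorem HH_coeff {m d : ℕ} (hd : 1 ≤ d) : HH (fun c : WI (m + 2) d => coeff c.1.1 (H0 k m d)) = H0 k m d := by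
  classical
  ext s
  rw [HH, coeff_sum]
  by_cases hs : s.degree = d
  · by_cases hw : ∃ i : Fin (m + 3), 2 ≤ i.1 ∧ s i ≠ 0
    · rw [Finset.sum_eq_single ⟨⟨s, hs⟩, hw⟩]
      · rw [coeff_monomial, if_pos rfl]
      · intro b _ hb
        rw [coeff_monomial, if_neg]
        intro h
        exact hb (Subtype.ext (Subtype.ext h))
      · simp
    · rw [coeff_H0 ⟨s, hs⟩ hw]
      refine Finset.sum_eq_zero fun b _ => ?_
      rw [coeff_monomial, if_neg]
      rintro rfl
      exact hw b.2
  · rw [(H0_isHomogeneous hd).coeff_eq_zero hs]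
    refine Finset.sum_eq_zero fun b _ => ?_
    rw [coeff_monomial, if_neg]
    rintro rfl
    exact hs b.1.2

theorem pderiv_H0 {m d : ℕ} (i : Fin (m + 3)) (hi : 2 ≤ i.1) :
    pderiv i (H0 k m d) = X 0 ^ aa d i.1 * X 1 ^ (d - 1 - aa d i.1) := by
  classical
  have h0 : (0 : Fin (m + 3)) ≠ i := by
    rintro rfl; simp at hi
  have h1 : (1 : Fin (m + 3)) ≠ i := by
    rintro rfl
    simp at hi
  have hm : ∀ j : Fin (m + 3), pderiv i (X 0 ^ aa d j.1 * X 1 ^ (d - 1 - aa d j.1) : MvPolynomial (Fin (m + 3)) k) = 0 := by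
    intro j
    rw [pderiv_mul, pderiv_pow, pderiv_pow, pderiv_X_of_ne h0, pderiv_X_of_ne h1]
    simp
  rw [H0, map_sum, Finset.sum_eq_single i]
  · rw [if_pos hi, pderiv_mul, pderiv_X_self, hm, one_mul, mul_zero, add_zero]
  · intro j _ hj
    split_ifs
    · rw [pderiv_mul, hm, pderiv_X_of_ne hj, zero_mul, mul_zero, add_zero]
    · exact map_zero _
  · simp

/-- the base point: identity matrix and the special form -/
noncomputable def x0 (k : Type u) [Field k] (m d : ℕ) : T (m + 2) d → k :=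
  Sum.elim (fun p => if p.1 = p.2 then 1 else 0) fun c => coeff c.1.1 (H0 k m d)

theorem x0_mul {m d : ℕ} (y : Fin (m + 3) → k) :
    (fun i => ∑ j, x0 k m d (Sum.inl (i, j)) * y j) = y := by
  funext i
  rw [Finset.sum_eq_single i]
  · simp [x0]
  · intro b _ hb
    simp [x0, hb.symm]
  · simp

/-- comparison of coefficients -/
theorem coeff_eq_of_eval [Infinite k] {n d : ℕ} (c : FI n d → k) (s₀ : FI n d)
    (h : ∀ y : Fin (n + 1) → k, ∑ s : FI n d, c s * ∏ i, y i ^ s.1 i = ∏ i, y i ^ s₀.1 i) (s : FI n d) :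
    c s = if s = s₀ then 1 else 0 := by
  classical
  have h1 : (∑ s : FI n d, monomial s.1 (c s) : MvPolynomial (Fin (n + 1)) k) = monomial s₀.1 1 := by
    apply MvPolynomial.funext
    intro y
    rw [map_sum, eval_monomial, Finsupp.prod_fintype _ _ (fun _ => pow_zero _), one_mul, ← h y]
    refine Finset.sum_congr rfl fun s _ => ?_
    rw [eval_monomial, Finsupp.prod_fintype _ _ (fun _ => pow_zero _)]
  have h2 := congrArg (coeff s.1) h1
  rw [coeff_sum, Finset.sum_eq_single s, coeff_monomial, if_pos rfl, coeff_monomial] at h2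
  · rw [h2]
    simp only [Subtype.ext_iff, eq_comm]
  · intro b _ hb
    rw [coeff_monomial, if_neg (fun h => hb (Subtype.ext h))]
  · simp

/-- The differential of the map at the base point is surjective. -/
theorem exists_tangent [Infinite k] {m d : ℕ} (hd : 1 ≤ d) (hdm : d ≤ 2 * m + 1) (s₀ : FI (m + 2) d) :
    ∃ v : T (m + 2) d → k, ∀ s, ∑ t, v t * eval (x0 k m d) (pderiv t (psi k (m + 2) d s)) = if s = s₀ then 1 else 0 := by
  classical
  have hH : HH (fun c : WI (m + 2) d => x0 k m d (Sum.inr c)) = H0 k m d := HH_coeff hd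
  by_cases hw : ∃ i : Fin (m + 3), 2 ≤ i.1 ∧ s₀.1 i ≠ 0
  · let v : T (m + 2) d → k := Sum.elim (fun _ => 0) (Pi.single ⟨s₀, hw⟩ 1)
    refine ⟨v, fun s => coeff_eq_of_eval (fun s => ∑ t, v t * eval (x0 k m d) (pderiv t (psi k (m + 2) d s))) s₀
      (fun y => ?_) s⟩
    rw [sum_pderiv_psi]
    simp only [v, Sum.elim_inl, Sum.elim_inr, zero_mul, Finset.sum_const_zero, zero_add]
    rw [x0_mul, HH, Finset.sum_eq_single ⟨s₀, hw⟩]
    · rw [Pi.single_eq_same, eval_monomial, Finsupp.prod_fintype _ _ (fun _ => pow_zero _), one_mul]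
    · intro b _ hb
      rw [Pi.single_eq_of_ne hb, monomial_zero]
    · simp
  · push Not at hw
    -- the exponents of `s₀`
    have hsum : s₀.1 0 + s₀.1 1 = d := by
      have h1 := s₀.2
      rw [Finsupp.degree_eq_sum, Fin.sum_univ_succ, Fin.sum_univ_succ, Finset.sum_eq_zero] at h1
      · exact h1
      · intro i _
        exact hw _ (by simp)
    have hprod : ∀ y : Fin (m + 3) → k, ∏ i, y i ^ s₀.1 i = y 0 ^ s₀.1 0 * y 1 ^ s₀.1 1 := by
      intro y
      rw [Fin.prod_univ_succ, Fin.prod_univ_succ, Finset.prod_eq_one, mul_one]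
      · rfl
      · intro i _
        rw [hw _ (by simp), pow_zero]
    set b := s₀.1 0 with hb
    let i : Fin (m + 3) := ⟨2 + b / 2, by omega⟩
    have hi : 2 ≤ i.1 := by simp [i]
    have hai : aa d i.1 = min (2 * (b / 2)) (d - 1) := by simp [aa, i]
    obtain ⟨j, hj⟩ : ∃ j : Fin (m + 3), ∀ y : Fin (m + 3) → k,
        y j * (y 0 ^ aa d i.1 * y 1 ^ (d - 1 - aa d i.1)) = y 0 ^ s₀.1 0 * y 1 ^ s₀.1 1 := by
      by_cases h : b = aa d i.1
      · refine ⟨1, fun y => ?_⟩
        have h1 : s₀.1 1 = d - 1 - aa d i.1 + 1 := by omega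
        rw [← h, h1, pow_succ, ← h]
        ring
      · refine ⟨0, fun y => ?_⟩
        have h0 : s₀.1 0 = aa d i.1 + 1 := by omega
        have h1 : s₀.1 1 = d - 1 - aa d i.1 := by omega
        rw [h0, h1, pow_succ]
        ring
    let v : T (m + 2) d → k := Sum.elim (Pi.single (i, j) 1) (fun _ => 0)
    refine ⟨v, fun s => coeff_eq_of_eval (fun s => ∑ t, v t * eval (x0 k m d) (pderiv t (psi k (m + 2) d s))) s₀
      (fun y => ?_) s⟩
    rw [sum_pderiv_psi]
    simp only [v, Sum.elim_inl, Sum.elim_inr]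
    rw [x0_mul, hH]
    have h0 : HH (fun _ : WI (m + 2) d => (0 : k)) = 0 := by
      rw [HH]
      exact Finset.sum_eq_zero fun c _ => monomial_zero
    rw [h0, map_zero, add_zero, Finset.sum_eq_single i, Finset.sum_eq_single j, Pi.single_eq_same, one_mul,
      pderiv_H0 i hi, hprod, ← hj y]
    · simp
    · intro b _ hb
      rw [Pi.single_eq_of_ne (by simpa using hb), zero_mul]
    · simp
    · intro b _ hb
      rw [Finset.sum_eq_zero, zero_mul]
      intro c _
      rw [Pi.single_eq_of_ne (by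
        intro h
        exact hb (congrArg Prod.fst h)), zero_mul]
    · simp

/-- Every hypersurface of degree `1 ≤ d ≤ 2n - 3` in `P^n` contains a line. -/
theorem hasLine [IsAlgClosed k] [CharZero k] {n d : ℕ} (hd : 1 ≤ d) (hdn : d + 3 ≤ 2 * n) (f : Form n k d) :
    HasLine f.1 := by
  classical
  have : Infinite k := IsAlgClosed.instInfinite
  obtain ⟨m, rfl⟩ : ∃ m, n = m + 2 := ⟨n - 2, by omega⟩
  by_contra hf
  obtain ⟨F, hF, hF0, hFL⟩ := isZOpen_not_hasLine (k := k) (m + 2) d f hf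
  obtain ⟨P, hP⟩ := exists_polynomial_of_isPolyFun (formCoords (m + 2) k d) hF
  have hP0 : P = 0 := by
    refine JacCrit.eq_zero_of_surjective (psi k (m + 2) d) (x0 k m d)
      (exists_tangent hd (by omega)) P ?_
    apply MvPolynomial.funext
    intro x
    rw [map_zero]
    let G : Form (m + 2) k d := (formCoords (m + 2) k d).symm fun s => eval x (psi k (m + 2) d s)
    have hG : formCoords (m + 2) k d G = fun s => eval x (psi k (m + 2) d s) := LinearEquiv.apply_symm_apply _ _
    have h1 : HasLine G.1 := hasLine_psi (by omega) x G fun s => by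
      have := congrFun hG s
      rwa [formCoords_apply] at this
    have h2 : F G = 0 := by
      by_contra hne
      exact hFL G hne h1
    rw [hP, hG] at h2
    rw [← h2, ← MvPolynomial.aeval_eq_eval, ← AlgHom.comp_apply, comp_aeval]
  apply hF0
  rw [hP, hP0, map_zero]

end K713.LineExists
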