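import Groth.Agent.Fano.K713.PfCongr
import Groth.Agent.Fano.K713.PPDef
import Groth.Agent.Fano.K461.Top
import Mathlib.Algebra.CharZero.Infinite

/-!
# `PP f` is an image of `GL_6 × Sol13` (S16528, `irr_PP`)

* `act A M` : the action of matrices on skew matrices of linear forms.
* `irr_PP_of` : if `Sol13 (tri f)` is irreducible and every Pfaffian representation of `f` has a jumping vector
  (`Jump`), then `PP f` is irreducible.
-/

set_option autoImplicit false

universe u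

namespace K713.PfGlue

open K255.Pf K713.PP K713.PfCongr K714.Irr LefPen Groth.Agent.Lefpen.H703.ZOpen Matrix

variable {k : Type u} [Field k]

/-- parameters of a decomposition -/
abbrev Q5 (k : Type u) [Field k] : Type u :=
  E k × (Fin 3 → E k) × (Fin 3 → E k) × (Fin 3 → E k) × (Fin 3 → E k)

/-- coefficients of a linear form -/
def cf (l : E k) : Fin 5 → k := fun i => l (Pi.single i 1)

/-- the linear form with given coefficients -/
def fn (w : Fin 5 → k) : E k := ∑ i, w i • LinearMap.proj i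

theorem fn_apply (w x : Fin 5 → k) : fn w x = ∑ i, w i * x i := by
  simp [fn]

theorem cf_fn (w : Fin 5 → k) : cf (fn w) = w := by
  funext i
  rw [cf, fn_apply]
  simp [Pi.single_apply]

theorem cf_add (l l' : E k) : cf (l + l') = cf l + cf l' := rfl

theorem cf_smul (c : k) (l : E k) : cf (c • l) = c • cf l := rfl

theorem cf_zero : cf (0 : E k) = 0 := rfl

theorem cf_val (l : E k) (x : Fin 5 → k) : ∑ i, cf l i * x i = l x := by
  conv_rhs => rw [LinearMap.pi_apply_eq_sum_univ l x]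
  refine Finset.sum_congr rfl fun i _ => ?_
  rw [smul_eq_mul, mul_comm, cf]
  congr 2
  funext j
  rw [Pi.single_apply]
  simp [eq_comm]

/-- action of a matrix on a matrix of linear forms -/
def act (A : Matrix (Fin 6) (Fin 6) k) (M : DataE k) : DataE k :=
  fun i j => ∑ a, ∑ b, (A i a * A j b) • M a b

theorem act_apply (A : Matrix (Fin 6) (Fin 6) k) (M : DataE k) (i j : Fin 6) (l : Fin 5) :
    act A M i j l = ∑ a, ∑ b, A i a * A j b * M a b l := by
  simp [act, Finset.sum_apply]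

theorem conj_apply (A : Matrix (Fin 6) (Fin 6) k) (m : Fin 6 → Fin 6 → k) (i j : Fin 6) :
    (A * Matrix.of m * Aᵀ) i j = ∑ a, ∑ b, A i a * A j b * m a b := by
  rw [Matrix.mul_assoc, Matrix.mul_apply]
  refine Finset.sum_congr rfl fun a _ => ?_
  rw [Matrix.mul_apply, Finset.mul_sum]
  refine Finset.sum_congr rfl fun b _ => ?_
  rw [Matrix.transpose_apply, Matrix.of_apply]
  ring

theorem valE_act (A : Matrix (Fin 6) (Fin 6) k) (M : DataE k) (x : Fin 5 → k) :
    valE (act A M) x = A * Matrix.of (valE M x) * Aᵀ := by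
  funext i j
  rw [conj_apply, valE]
  simp only [act_apply, valE, Finset.sum_mul, Finset.mul_sum]
  rw [Finset.sum_comm]
  refine Finset.sum_congr rfl fun a _ => ?_
  rw [Finset.sum_comm]
  refine Finset.sum_congr rfl fun b _ => Finset.sum_congr rfl fun l _ => ?_
  ring

theorem act_act (A B : Matrix (Fin 6) (Fin 6) k) (M : DataE k) : act A (act B M) = act (A * B) M := by
  have h : ∀ l : Fin 5, ∀ (C : Matrix (Fin 6) (Fin 6) k) (N : DataE k) (i j : Fin 6),
      act C N i j l = (C * Matrix.of (fun a b => N a b l) * Cᵀ) i j := by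
    intro l C N i j
    rw [act_apply, conj_apply]
  funext i j l
  rw [h, h]
  have h2 : (Matrix.of fun a b => act B M a b l) = B * Matrix.of (fun a b => M a b l) * Bᵀ := by
    ext a b
    rw [Matrix.of_apply, h]
  rw [h2, transpose_mul]
  simp only [Matrix.mul_assoc]

theorem act_one (M : DataE k) : act (1 : Matrix (Fin 6) (Fin 6) k) M = M := by
  funext i j l
  rw [act_apply, ← conj_apply (m := fun a b => M a b l), Matrix.one_mul, Matrix.transpose_one, Matrix.mul_one,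
    Matrix.of_apply]

theorem act_add (A : Matrix (Fin 6) (Fin 6) k) (M N : DataE k) : act A (M + N) = act A M + act A N := by
  funext i j l
  simp only [act_apply, Pi.add_apply, mul_add, Finset.sum_add_distrib]

theorem act_smul (A : Matrix (Fin 6) (Fin 6) k) (c : k) (M : DataE k) : act A (c • M) = c • act A M := by
  funext i j l
  simp only [act_apply, Pi.smul_apply, smul_eq_mul, Finset.mul_sum]
  refine Finset.sum_congr rfl fun a _ => Finset.sum_congr rfl fun b _ => ?_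
  ring

/-- the block of the rows `1, …, 5` -/
def RR (q : Q5 k) : DataE k :=
  ![![0, 0, 0, 0, 0, 0],
    ![0, 0, cf q.1, -cf (q.2.2.1 0), -cf (q.2.2.1 1), -cf (q.2.2.1 2)],
    ![0, -cf q.1, 0, cf (q.2.2.2.1 0), cf (q.2.2.2.1 1), cf (q.2.2.2.1 2)],
    ![0, cf (q.2.2.1 0), -cf (q.2.2.2.1 0), 0, cf (q.2.2.2.2 2), -cf (q.2.2.2.2 1)],
    ![0, cf (q.2.2.1 1), -cf (q.2.2.2.1 1), -cf (q.2.2.2.2 2), 0, cf (q.2.2.2.2 0)],
    ![0, cf (q.2.2.1 2), -cf (q.2.2.2.1 2), cf (q.2.2.2.2 1), -cf (q.2.2.2.2 0), 0]]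

/-- the row and the column `0` -/
def ZZ (q : Q5 k) : DataE k :=
  ![![0, 0, 0, cf (q.2.1 0), cf (q.2.1 1), cf (q.2.1 2)],
    ![0, 0, 0, 0, 0, 0],
    ![0, 0, 0, 0, 0, 0],
    ![-cf (q.2.1 0), 0, 0, 0, 0, 0],
    ![-cf (q.2.1 1), 0, 0, 0, 0, 0],
    ![-cf (q.2.1 2), 0, 0, 0, 0, 0]]

def RL : Q5 k →ₗ[k] DataE k where
  toFun := RR
  map_add' p q := by
    funext i j l
    fin_cases i <;> fin_cases j <;> simp [RR, cf] <;> ring
  map_smul' c p := by
    funext i j l
    fin_cases i <;> fin_cases j <;> simp [RR, cf]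

def ZL : Q5 k →ₗ[k] DataE k where
  toFun := ZZ
  map_add' p q := by
    funext i j l
    fin_cases i <;> fin_cases j <;> simp [ZZ, cf] <;> ring
  map_smul' c p := by
    funext i j l
    fin_cases i <;> fin_cases j <;> simp [ZZ, cf]

theorem pm_pi {V W : Type u} [AddCommGroup V] [Module k V] [AddCommGroup W] [Module k W] {ι : Type} [Finite ι]
    {φ : V → ι → W} (h : ∀ i, IsPolyMap k (fun v => φ v i)) : IsPolyMap k φ := by
  intro l
  classical
  cases nonempty_fintype ι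
  have e : (fun v => l (φ v)) = fun v => ∑ i, l (Pi.single i (φ v i)) := by
    funext v
    rw [← map_sum]
    congr 1
    exact (Finset.univ_sum_single (φ v)).symm
  rw [e]
  exact pf_sum _ fun i _ => h i (l.comp (LinearMap.single k (fun _ => W) i))

theorem pm_act (L : Q5 k →ₗ[k] DataE k) :
    IsPolyMap k (fun v : Matrix (Fin 6) (Fin 6) k × Q5 k => act v.1 (L v.2)) := by
  refine pm_pi fun i => pm_pi fun j => isPolyMap_pi.2 fun l => ?_
  simp only [act_apply]
  refine pf_sum _ fun a _ => pf_sum _ fun b _ => pf_mul (pf_mul ?_ ?_) ?_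
  · exact isPolyFun_linear (k := k) ((LinearMap.proj a ∘ₗ LinearMap.proj i).comp
      (LinearMap.fst k (Fin 6 → Fin 6 → k) (Q5 k)))
  · exact isPolyFun_linear (k := k) ((LinearMap.proj b ∘ₗ LinearMap.proj j).comp
      (LinearMap.fst k (Fin 6 → Fin 6 → k) (Q5 k)))
  · exact isPolyFun_linear (k := k) ((LinearMap.proj l ∘ₗ LinearMap.proj b ∘ₗ LinearMap.proj a ∘ₗ L).comp
      (LinearMap.snd k (Matrix (Fin 6) (Fin 6) k) (Q5 k)))

theorem pf_det' : IsPolyFun k (fun v : Matrix (Fin 6) (Fin 6) k × Q5 k => v.1.det) :=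
  isPolyFun_det fun i j => isPolyFun_linear (k := k) ((LinearMap.proj j ∘ₗ LinearMap.proj i).comp
      (LinearMap.fst k (Fin 6 → Fin 6 → k) (Q5 k)))

/-- the Pfaffian of `RR q + s ZZ q` -/
theorem pf6_RZ (q : Q5 k) (s : k) (x : Fin 5 → k) :
    pf6 (valE (RR q + s • ZZ q) x) = s * (q.1 x * ∑ i, q.2.1 i x * q.2.2.2.2 i x +
      det3 (fun i => q.2.1 i x) (fun i => q.2.2.1 i x) (fun i => q.2.2.2.1 i x)) := by
  have e : ∀ i j, valE (RR q + s • ZZ q) x i j = valE (RR q) x i j + s * valE (ZZ q) x i j := by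
    intro i j
    simp only [valE, Pi.add_apply, Pi.smul_apply, smul_eq_mul, add_mul, Finset.sum_add_distrib, Finset.mul_sum]
    congr 1
    refine Finset.sum_congr rfl fun l _ => ?_
    ring
  have hv : ∀ l : E k, (∑ i, cf l i * x i) = l x := fun l => cf_val l x
  have hn : ∀ l : E k, (∑ i, (-cf l) i * x i) = -l x := by
    intro l
    rw [← cf_val l x, ← Finset.sum_neg_distrib]
    refine Finset.sum_congr rfl fun i _ => ?_
    rw [Pi.neg_apply]
    ring
  have hz : (∑ i, (0 : Fin 5 → k) i * x i) = 0 := by simp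
  simp only [pf6, pf4, e, det3, Fin.sum_univ_three]
  have r01 : valE (RR q) x 0 1 = 0 := hz
  have r02 : valE (RR q) x 0 2 = 0 := hz
  have r03 : valE (RR q) x 0 3 = 0 := hz
  have r04 : valE (RR q) x 0 4 = 0 := hz
  have r05 : valE (RR q) x 0 5 = 0 := hz
  have r12 : valE (RR q) x 1 2 = q.1 x := hv _
  have r13 : valE (RR q) x 1 3 = - q.2.2.1 0 x := hn _
  have r14 : valE (RR q) x 1 4 = - q.2.2.1 1 x := hn _
  have r15 : valE (RR q) x 1 5 = - q.2.2.1 2 x := hn _
  have r23 : valE (RR q) x 2 3 = q.2.2.2.1 0 x := hv _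
  have r24 : valE (RR q) x 2 4 = q.2.2.2.1 1 x := hv _
  have r25 : valE (RR q) x 2 5 = q.2.2.2.1 2 x := hv _
  have r34 : valE (RR q) x 3 4 = q.2.2.2.2 2 x := hv _
  have r35 : valE (RR q) x 3 5 = - q.2.2.2.2 1 x := hn _
  have r45 : valE (RR q) x 4 5 = q.2.2.2.2 0 x := hv _
  have z01 : valE (ZZ q) x 0 1 = 0 := hz
  have z02 : valE (ZZ q) x 0 2 = 0 := hz
  have z03 : valE (ZZ q) x 0 3 = q.2.1 0 x := hv _
  have z04 : valE (ZZ q) x 0 4 = q.2.1 1 x := hv _
  have z05 : valE (ZZ q) x 0 5 = q.2.1 2 x := hv _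
  have z12 : valE (ZZ q) x 1 2 = 0 := hz
  have z13 : valE (ZZ q) x 1 3 = 0 := hz
  have z14 : valE (ZZ q) x 1 4 = 0 := hz
  have z15 : valE (ZZ q) x 1 5 = 0 := hz
  have z23 : valE (ZZ q) x 2 3 = 0 := hz
  have z24 : valE (ZZ q) x 2 4 = 0 := hz
  have z25 : valE (ZZ q) x 2 5 = 0 := hz
  have z34 : valE (ZZ q) x 3 4 = 0 := hz
  have z35 : valE (ZZ q) x 3 5 = 0 := hz
  have z45 : valE (ZZ q) x 4 5 = 0 := hz
  rw [r01, r02, r03, r04, r05, r12, r13, r14, r15, r23, r24, r25, r34, r35, r45, z01, z02, z03, z04, z05, z12,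
    z13, z14, z15, z23, z24, z25, z34, z35, z45]
  ring

theorem skew_RZ (q : Q5 k) (s : k) (i j : Fin 6) : (RR q + s • ZZ q) i j = - (RR q + s • ZZ q) j i := by
  fin_cases i <;> fin_cases j <;> simp [RR, ZZ]

theorem act_skew {M : DataE k} (h : ∀ i j, M i j = - M j i) (A : Matrix (Fin 6) (Fin 6) k) (i j : Fin 6) :
    act A M i j = - act A M j i := by
  funext l
  rw [Pi.neg_apply, act_apply, act_apply, Finset.sum_comm, ← Finset.sum_neg_distrib]
  refine Finset.sum_congr rfl fun a _ => ?_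
  rw [← Finset.sum_neg_distrib]
  refine Finset.sum_congr rfl fun b _ => ?_
  rw [h b a, Pi.neg_apply]
  ring

theorem skew_val [CharZero k] {M : DataE k} (h : ∀ i j, M i j = - M j i) (x : Fin 5 → k) : Skew (valE M x) := by
  have h1 : ∀ i j, valE M x i j = - valE M x j i := by
    intro i j
    rw [valE, valE, h i j, ← Finset.sum_neg_distrib]
    refine Finset.sum_congr rfl fun l _ => ?_
    rw [Pi.neg_apply]
    ring
  exact ⟨h1, fun i => self_eq_neg.1 (h1 i i)⟩

theorem pf6_act [CharZero k] {M : DataE k} (h : ∀ i j, M i j = - M j i) (A : Matrix (Fin 6) (Fin 6) k)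
    (x : Fin 5 → k) : pf6 (valE (act A M) x) = A.det * pf6 (valE M x) := by
  rw [valE_act]
  exact pf6_conj (skew_val h x) A

/-- Every matrix of linear forms with zero entries `(0,1)`, `(0,2)` is of the form `RR + s ZZ`. -/
theorem exists_RZ [CharZero k] {M : DataE k} (h : ∀ i j, M i j = - M j i) (h1 : M 0 1 = 0) (h2 : M 0 2 = 0)
    {s : k} (hs : s ≠ 0) : ∃ q : Q5 k, RR q + s • ZZ q = M := by
  have hd : ∀ i, M i i = 0 := fun i => self_eq_neg.1 (h i i)
  refine ⟨(fn (M 1 2), fun i => fn (s⁻¹ • M 0 (![3, 4, 5] i)), fun i => fn (-M 1 (![3, 4, 5] i)),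
    fun i => fn (M 2 (![3, 4, 5] i)), ![fn (M 4 5), fn (-M 3 5), fn (M 3 4)]), ?_⟩
  have hs1 : ∀ w : Fin 5 → k, s • (s⁻¹ • w) = w := fun w => by rw [smul_smul, mul_inv_cancel₀ hs, one_smul]
  funext i j
  fin_cases i <;> fin_cases j
  all_goals simp [RR, ZZ, cf_fn, hs1, h1, h2, hd]
  · rw [h 1 0, h1, neg_zero]
  · rw [h 2 0, h2, neg_zero]
  · exact (h 2 1).symm
  · exact (h 3 0).symm
  · rw [h 3 1]
  · exact (h 3 2).symm
  · exact (h 4 0).symm
  · rw [h 4 1]
  · exact (h 4 2).symm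
  · exact (h 4 3).symm
  · exact (h 5 0).symm
  · rw [h 5 1]
  · exact (h 5 2).symm
  · rw [h 5 3]
  · exact (h 5 4).symm

/-- existence of a jumping vector -/
def Jump (M : DataE k) : Prop :=
  ∃ a b c : Fin 6 → k, LinearIndependent k ![a, b, c] ∧
    (∑ i, ∑ j, (a i * b j) • M i j = 0) ∧ (∑ i, ∑ j, (a i * c j) • M i j = 0)

theorem exists_extend {a b c : Fin 6 → k} (h : LinearIndependent k ![a, b, c]) :
    ∃ A : Matrix (Fin 6) (Fin 6) k, A.det ≠ 0 ∧ A 0 = a ∧ A 1 = b ∧ A 2 = c := by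
  obtain ⟨d, h3⟩ := exists_linearIndependent_snoc_of_lt_finrank h (by simp)
  obtain ⟨e, h4⟩ := exists_linearIndependent_snoc_of_lt_finrank h3 (by simp)
  obtain ⟨g, h5⟩ := exists_linearIndependent_snoc_of_lt_finrank h4 (by simp)
  refine ⟨Matrix.of (Fin.snoc (Fin.snoc (Fin.snoc ![a, b, c] d) e) g), ?_, rfl, rfl, rfl⟩
  have h6 : IsUnit (Matrix.of (Fin.snoc (Fin.snoc (Fin.snoc ![a, b, c] d) e) g) : Matrix (Fin 6) (Fin 6) k) :=
    Matrix.linearIndependent_rows_iff_isUnit.1 h5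
  exact ((Matrix.isUnit_iff_isUnit_det _).1 h6).ne_zero

/-- **`PP f` is irreducible** if `Sol13` is and every element of `PP f` has a jumping vector. -/
theorem irr_PP_of [CharZero k] (f : MvPolynomial (Fin 5) k) (hf : f.IsHomogeneous 3)
    (hS : Irr k (Sol13 (K656.Trilin.tri f))) (hJ : ∀ M ∈ PP f, Jump M) : Irr k (PP f) := by
  have hT : ∀ x, K656.Trilin.tri f x x x = MvPolynomial.eval x f := fun x => K656.Trilin.tri_diag hf x
  have hB : Irr k {v : Matrix (Fin 6) (Fin 6) k × Q5 k | v.1 ∈ (Set.univ : Set (Matrix (Fin 6) (Fin 6) k)) ∧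
      v.2 ∈ Sol13 (K656.Trilin.tri f)} := (irr_univ (k := k)).prod hS
  have h := K461.Top.irr_rat hB pf_det' (pm_act RL) (pm_act ZL) (by
    obtain ⟨q, hq⟩ := hS.1
    exact ⟨(1, q), ⟨trivial, hq⟩, by simp⟩)
  have he : ∀ (B : Matrix (Fin 6) (Fin 6) k) (q : Q5 k), act B (RL q) + (B.det)⁻¹ • act B (ZL q) =
      act B (RR q + (B.det)⁻¹ • ZZ q) := by
    intro B q
    rw [act_add, act_smul]
    rfl
  convert h using 1
  ext M
  constructor
  · intro hM
    obtain ⟨a, b, c, hli, hab, hac⟩ := hJ M hM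
    -- extend `a, b, c` to a basis
    obtain ⟨A, hA, hA0, hA1, hA2⟩ := exists_extend hli
    have h01 : act A M 0 1 = 0 := by
      rw [act]; simp only [hA0, hA1]; exact hab
    have h02 : act A M 0 2 = 0 := by
      rw [act]; simp only [hA0, hA2]; exact hac
    have hu : IsUnit A.det := isUnit_iff_ne_zero.2 hA
    have hd : (A⁻¹).det ≠ 0 := by
      rw [Matrix.det_nonsing_inv, Ring.inverse_eq_inv']
      exact inv_ne_zero hA
    rw [mem_PP_iff] at hM
    obtain ⟨q, hq⟩ := exists_RZ (act_skew hM.1 A) h01 h02 (inv_ne_zero hd)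
    have hM2 : act A⁻¹ (RR q + ((A⁻¹).det)⁻¹ • ZZ q) = M := by
      rw [hq, act_act, Matrix.nonsing_inv_mul _ hu, act_one]
    refine ⟨(A⁻¹, q), ⟨⟨trivial, fun x => ?_⟩, hd⟩, ?_⟩
    · have h3 := pf6_RZ q ((A⁻¹).det)⁻¹ x
      rw [hq, pf6_act hM.1, hM.2 x] at h3
      rw [hT x]
      have h4 : (A⁻¹).det = (A.det)⁻¹ := by rw [Matrix.det_nonsing_inv, Ring.inverse_eq_inv']
      rw [h4, inv_inv] at h3
      exact mul_left_cancel₀ hA h3
    · simp only
      rw [he]
      exact hM2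
  · rintro ⟨⟨B, q⟩, ⟨⟨-, hq⟩, hd⟩, rfl⟩
    simp only at hd ⊢
    rw [he, mem_PP_iff]
    refine ⟨act_skew (skew_RZ q _) B, fun x => ?_⟩
    rw [pf6_act (skew_RZ q _), pf6_RZ, ← mul_assoc, mul_inv_cancel₀ hd, one_mul, ← hT x]
    exact (hq x).symm

end K713.PfGlue
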