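import Groth.Agent.Fano.K713.PfJump2
import Groth.Agent.Fano.K713.PfGlue

/-!
# Pfaffian representations of a smooth cubic threefold: jumping vectors, irreducibility from `Sol13` (S16528)

* `jump` : node I1: every `M ∈ PP f` has a jumping vector.
* `irr_PP_of_sol` : `Irr k (Sol13 (tri f)) → Irr k (PP f)`.
-/

set_option autoImplicit false

universe u

namespace K713.PfJump

open K255.Pf K713.PfCongr K713.PfDer K713.PfGlue K656.Trilin K714.Surf Module LefPen
  Groth.Agent.Lefpen.H703.ZOpen Matrix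

variable {k : Type u} [Field k]

/-- the bilinear forms of a matrix of linear forms -/
noncomputable def BM (M : DataE k) : (Fin 5 → k) →ₗ[k] (Fin 6 → k) →ₗ[k] (Fin 6 → k) →ₗ[k] k :=
  ∑ l, ∑ i, ∑ j, M i j l • (LinearMap.proj l : (Fin 5 → k) →ₗ[k] k).smulRight
    ((LinearMap.proj i : (Fin 6 → k) →ₗ[k] k).smulRight (LinearMap.proj j : (Fin 6 → k) →ₗ[k] k))

theorem BM_apply (M : DataE k) (x : Fin 5 → k) (u v : Fin 6 → k) :
    BM M x u v = ∑ l, ∑ i, ∑ j, M i j l * (x l * (u i * v j)) := by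
  simp [BM, LinearMap.sum_apply]

theorem BM_apply' (M : DataE k) (x : Fin 5 → k) (u v : Fin 6 → k) :
    BM M x u v = ∑ i, ∑ j, u i * v j * valE M x i j := by
  rw [BM_apply, Finset.sum_comm]
  refine Finset.sum_congr rfl fun i _ => ?_
  rw [Finset.sum_comm]
  refine Finset.sum_congr rfl fun j _ => ?_
  rw [valE, Finset.mul_sum]
  refine Finset.sum_congr rfl fun l _ => ?_
  ring

theorem BM_mat (M : DataE k) (x : Fin 5 → k) (w : Fin 6 → (Fin 6 → k)) :
    (fun i j => BM M x (w i) (w j)) = Matrix.of w * Matrix.of (valE M x) * (Matrix.of w)ᵀ := by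
  funext i j
  rw [conj_apply, BM_apply']
  rfl

theorem pfData [CharZero k] [Infinite k] {f : MvPolynomial (Fin 5) k} (hf : f.IsHomogeneous 3) {M : DataE k}
    (hM : M ∈ PP f) : PfData (BM M) (tri f) := by
  rw [mem_PP_iff] at hM
  refine ⟨fun x u => ?_, fun w hw => ⟨(Matrix.of w).det, ?_, fun x => ?_⟩⟩
  · have h1 : BM M x u u = - BM M x u u := by
      conv_rhs => rw [BM_apply', Finset.sum_comm]
      rw [BM_apply', ← Finset.sum_neg_distrib]
      refine Finset.sum_congr rfl fun i _ => ?_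
      rw [← Finset.sum_neg_distrib]
      refine Finset.sum_congr rfl fun j _ => ?_
      rw [(skew_val hM.1 x).1 i j]
      ring
    exact self_eq_neg.1 h1
  · have h6 : IsUnit (Matrix.of w : Matrix (Fin 6) (Fin 6) k) := Matrix.linearIndependent_rows_iff_isUnit.1 hw
    exact ((Matrix.isUnit_iff_isUnit_det _).1 h6).ne_zero
  · rw [BM_mat, pf6_conj (skew_val hM.1 x), hM.2 x, tri_diag hf]

/-- **Jumping vectors** (node I1). -/
theorem jump [IsAlgClosed k] [CharZero k] {f : MvPolynomial (Fin 5) k} (hf : f.IsHomogeneous 3)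
    (hsm : SmoothOn (tri f) ⊤) {M : DataE k} (hM : M ∈ PP f) : Jump M := by
  have hinf : Infinite k := IsAlgClosed.instInfinite
  obtain ⟨a, b, c, hli, h1, h2⟩ := exists_jump (pfData hf hM) (tri_sym f) hsm (by simp)
  have key : ∀ u v : Fin 6 → k, (∀ x, BM M x u v = 0) → ∑ i, ∑ j, (u i * v j) • M i j = 0 := by
    intro u v h
    funext l
    have h3 := h (Pi.single l 1)
    rw [BM_apply'] at h3
    rw [Pi.zero_apply, ← h3, Finset.sum_apply]
    refine Finset.sum_congr rfl fun i _ => ?_
    rw [Finset.sum_apply]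
    refine Finset.sum_congr rfl fun j _ => ?_
    rw [Pi.smul_apply, smul_eq_mul, valE]
    congr 1
    simp [Pi.single_apply]
  exact ⟨a, b, c, hli, key a b h1, key a c h2⟩

/-- **The Pfaffian representations form an irreducible set**, given the irreducibility of `Sol13`. -/
theorem irr_PP_of_sol [IsAlgClosed k] [CharZero k] (f : MvPolynomial (Fin 5) k) (hf : f.IsHomogeneous 3)
    (hsm : SmoothOn (tri f) ⊤) (hS : K714.Irr.Irr k (K713.PP.Sol13 (tri f))) : K714.Irr.Irr k (PP f) :=
  irr_PP_of f hf hS fun _ hM => jump hf hsm hM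

end K713.PfJump
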