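import Mathlib.Algebra.MvPolynomial.PDeriv
import Mathlib.Algebra.MvPolynomial.Derivation
import Mathlib.LinearAlgebra.Matrix.NonsingularInverse
import Mathlib.LinearAlgebra.Matrix.Nondegenerate
import Mathlib.Algebra.MvPolynomial.NoZeroDivisors

/-!
# The Jacobian criterion for algebraic independence of polynomials, characteristic zero
-/

set_option autoImplicit false

namespace K713.JacCrit

open MvPolynomial

variable {k : Type*} [Field k]

theorem totalDegree_pderiv_le {σ : Type*} (P : MvPolynomial σ k) (i : σ) {n : ℕ} (h : P.totalDegree ≤ n + 1) :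
    (pderiv i P).totalDegree ≤ n := by
  classical
  rw [totalDegree, Finset.sup_le_iff]
  intro m hm
  rw [mem_support_iff, coeff_pderiv] at hm
  have h1 : coeff (m + Finsupp.single i 1) P ≠ 0 := left_ne_zero_of_mul hm
  have h2 := le_totalDegree (mem_support_iff.2 h1)
  rw [Finsupp.sum_add_index' (fun _ => rfl) (fun _ _ _ => rfl), Finsupp.sum_single_index rfl] at h2
  omega

theorem eq_C_of_pderiv_eq_zero [CharZero k] {σ : Type*} (P : MvPolynomial σ k) (h : ∀ i, pderiv i P = 0) :
    P = C (coeff 0 P) := by
  classical
  ext m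
  rw [coeff_C]
  split_ifs with hm
  · rw [hm]
  · obtain ⟨i, hi⟩ : ∃ i, m i ≠ 0 := by
      by_contra hcon
      push Not at hcon
      exact hm (Finsupp.ext fun i => (hcon i).symm)
    have h1 := congrArg (coeff (m - Finsupp.single i 1)) (h i)
    rw [coeff_pderiv, coeff_zero] at h1
    have h2 : m - Finsupp.single i 1 + Finsupp.single i 1 = m := by
      refine tsub_add_cancel_of_le ?_
      rw [Finsupp.single_le_iff]
      omega
    rw [h2] at h1
    refine (mul_eq_zero.1 h1).resolve_right ?_
    exact Nat.cast_add_one_ne_zero _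

theorem pderiv_aeval {σ τ : Type*} [Fintype σ] (Φ : σ → MvPolynomial τ k) (P : MvPolynomial σ k) (t : τ) :
    pderiv t (aeval Φ P) = ∑ s, aeval Φ (pderiv s P) * pderiv t (Φ s) := by
  classical
  induction P using MvPolynomial.induction_on with
  | C a => simp
  | add p q hp hq =>
    simp only [map_add, hp, hq, add_mul, Finset.sum_add_distrib]
  | mul_X p n hp =>
    rw [map_mul, aeval_X, Derivation.leibniz, hp]
    simp only [Derivation.leibniz, smul_eq_mul, map_add, map_mul, aeval_X, pderiv_X, add_mul,
      Finset.sum_add_distrib]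
    congr 1
    · rw [Finset.sum_eq_single n]
      · simp
      · intro b _ hb
        rw [Pi.single_eq_of_ne (Ne.symm hb)]; simp
      · simp
    · rw [Finset.mul_sum]
      exact Finset.sum_congr rfl fun s _ => by ring

/-- **Jacobian criterion.** If the differential of the polynomial map `Φ` is surjective at some point then the
components of `Φ` are algebraically independent. -/
theorem eq_zero_of_surjective [CharZero k] {σ τ : Type*} [Fintype σ] [DecidableEq σ] [Fintype τ] (Φ : σ → MvPolynomial τ k)
    (x : τ → k) (hs : ∀ s₀ : σ, ∃ v : τ → k, ∀ s, ∑ t, v t * eval x (pderiv t (Φ s)) = if s = s₀ then 1 else 0)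
    (P : MvPolynomial σ k) (hP : aeval Φ P = 0) : P = 0 := by
  classical
  choose v hv using hs
  -- a square matrix of polynomials, invertible at `x`
  let M : Matrix σ σ (MvPolynomial τ k) := fun s' s => ∑ t, C (v s t) * pderiv t (Φ s')
  have hM : (eval x).mapMatrix M = 1 := by
    ext s' s
    rw [RingHom.mapMatrix_apply, Matrix.map_apply, map_sum]
    simp only [map_mul, eval_C]
    rw [hv s s', Matrix.one_apply]
  have hdet : M.det ≠ 0 := by
    intro h0
    have h1 := congrArg (eval x) h0
    rw [RingHom.map_det, hM, Matrix.det_one, map_zero] at h1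
    exact one_ne_zero h1
  have step : ∀ P : MvPolynomial σ k, aeval Φ P = 0 → ∀ s, aeval Φ (pderiv s P) = 0 := by
    intro P hP
    have h1 : ∀ t, ∑ s, aeval Φ (pderiv s P) * pderiv t (Φ s) = 0 := fun t => by
      rw [← pderiv_aeval, hP, map_zero]
    have h2 : Matrix.vecMul (fun s => aeval Φ (pderiv s P)) M = 0 := by
      ext1 s
      rw [Matrix.vecMul, dotProduct, Pi.zero_apply]
      simp only [M, Finset.mul_sum]
      rw [Finset.sum_comm]
      refine Finset.sum_eq_zero fun t _ => ?_
      have h3 : ∑ s', aeval Φ (pderiv s' P) * (C (v s t) * pderiv t (Φ s')) =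
          C (v s t) * ∑ s', aeval Φ (pderiv s' P) * pderiv t (Φ s') := by
        rw [Finset.mul_sum]
        exact Finset.sum_congr rfl fun s' _ => by ring
      rw [h3, h1, mul_zero]
    exact fun s => congrFun (Matrix.eq_zero_of_vecMul_eq_zero hdet h2) s
  have key : ∀ (n : ℕ) (P : MvPolynomial σ k), P.totalDegree ≤ n → aeval Φ P = 0 → P = 0 := by
    intro n
    induction n with
    | zero =>
      intro P hP h
      have h1 := totalDegree_eq_zero_iff_eq_C.1 (Nat.le_zero.1 hP)
      rw [h1, algHom_C] at h
      have h2 : coeff 0 P = 0 := C_injective τ k (by rw [map_zero]; exact h)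
      rw [h1, h2, map_zero]
    | succ n ih =>
      intro P hP h
      have h1 := eq_C_of_pderiv_eq_zero P fun i => ih _ (totalDegree_pderiv_le P i hP) (step P h i)
      rw [h1, algHom_C] at h
      have h2 : coeff 0 P = 0 := C_injective τ k (by rw [map_zero]; exact h)
      rw [h1, h2, map_zero]
  exact key _ P le_rfl hP

end K713.JacCrit
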