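import Mathlib.Algebra.MvPolynomial.Eval
import Mathlib.RingTheory.MvPolynomial.Homogeneous
import Mathlib.LinearAlgebra.Dual.Lemmas
import Mathlib.LinearAlgebra.FiniteDimensional.Lemmas
import Mathlib.LinearAlgebra.Basis.VectorSpace
import Mathlib.Algebra.MvPolynomial.Funext

/-!
# Charts of the Grassmannian: pivots

* `exists_pivot`: every subspace of dimension `r` of `k^N` has a basis in reduced form.
* `sub M f`: substitution of the generic point `∑ l, y_l M_{·,l}` in a polynomial `f`.
* `mat J`: the generic matrix with pivots `J`.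
-/

set_option autoImplicit false

namespace K713.Chart

open MvPolynomial Module

variable {k : Type*} [Field k]

/-- Every `r`-dimensional subspace of `k^N` has a basis in reduced form with respect to some `r` coordinates. -/
theorem exists_pivot {N r : ℕ} (U : Submodule k (Fin N → k)) (hU : finrank k U = r) :
    ∃ (J : Fin r ↪ Fin N) (b : Fin r → Fin N → k), (∀ l, b l ∈ U) ∧ Submodule.span k (Set.range b) = U ∧
      ∀ l l', b l (J l') = if l' = l then 1 else 0 := by
  classical
  let x : Fin N → Dual k U := fun i => (LinearMap.proj i).comp U.subtype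
  obtain ⟨s, hs1, hs2, hs3⟩ := exists_linearIndependent k (Set.range x)
  have hspan : ∀ u : U, (∀ φ ∈ s, φ u = 0) → u = 0 := by
    intro u hu
    have h1 : ∀ φ ∈ Submodule.span k s, φ u = 0 := by
      intro φ hφ
      have h2 : Submodule.span k s ≤ LinearMap.ker (Dual.eval k U u) := by
        rw [Submodule.span_le]
        intro φ hφ
        exact hu φ hφ
      exact h2 hφ
    apply Subtype.ext
    ext i
    have := h1 (x i) (hs2 ▸ Submodule.subset_span ⟨i, rfl⟩)
    simpa [x] using this
  have hsf : s.Finite := (Set.finite_range x).subset hs1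
  have := hsf.fintype
  -- the evaluation map
  let Φ : U →ₗ[k] (s → k) := LinearMap.pi fun φ => φ.1
  have hΦ : Function.Injective Φ := by
    rw [injective_iff_map_eq_zero]
    intro u hu
    exact hspan u fun φ hφ => congrFun hu ⟨φ, hφ⟩
  have hc1 : r ≤ Fintype.card s := by
    have := LinearMap.finrank_le_finrank_of_injective hΦ
    rw [hU, finrank_fintype_fun_eq_card] at this
    exact this
  have hc2 : Fintype.card s ≤ r := by
    have := hs3.fintype_card_le_finrank
    rwa [Subspace.dual_finrank_eq, hU] at this
  have hc : Fintype.card s = r := le_antisymm hc2 hc1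
  let e : Fin r ≃ s := (Fintype.equivFinOfCardEq hc).symm
  have hx : ∀ φ : s, ∃ i, x i = φ.1 := fun φ => hs1 φ.2
  choose g hg using hx
  have hginj : Function.Injective g := fun φ ψ h => Subtype.ext (by rw [← hg, ← hg, h])
  let Ψ : U →ₗ[k] (Fin r → k) := LinearMap.pi fun l => (e l).1
  have hΨ : Function.Injective Ψ := by
    rw [injective_iff_map_eq_zero]
    intro u hu
    refine hspan u fun φ hφ => ?_
    have := congrFun hu (e.symm ⟨φ, hφ⟩)
    simpa [Ψ] using this
  have hfr : finrank k U = finrank k (Fin r → k) := by rw [hU, finrank_fin_fun]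
  let E : U ≃ₗ[k] (Fin r → k) := LinearEquiv.ofInjectiveOfFinrankEq Ψ hΨ hfr
  refine ⟨⟨fun l => g (e l), hginj.comp e.injective⟩, fun l => E.symm (Pi.single l 1), fun l => (E.symm _).2, ?_, ?_⟩
  · have h1 : (Set.range fun l : Fin r => ((E.symm (Pi.single l 1) : U) : Fin N → k)) =
        U.subtype '' (Set.range fun l : Fin r => E.symm (Pi.single l 1)) := by
      rw [← Set.range_comp]; rfl
    rw [h1, ← Submodule.map_span]
    have h2 : (Set.range fun l : Fin r => E.symm (Pi.single l 1)) =
        E.symm.toLinearMap '' (Set.range fun l : Fin r => (Pi.single l 1 : Fin r → k)) := by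
      rw [← Set.range_comp]; rfl
    have h3 : Submodule.span k (Set.range fun l : Fin r => (Pi.single l 1 : Fin r → k)) = ⊤ := by
      have := (Pi.basisFun k (Fin r)).span_eq
      convert this using 3
      ext l; simp
    rw [h2, ← Submodule.map_span, h3, Submodule.map_top, LinearEquiv.range, Submodule.map_top,
      Submodule.range_subtype]
  · intro l l'
    have h1 : Ψ (E.symm (Pi.single l 1)) = Pi.single l 1 := E.apply_symm_apply _
    have h2 := congrFun h1 l'
    change ((e l').1 (E.symm (Pi.single l 1))) = _ at h2
    rw [← hg (e l')] at h2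
    rw [Pi.single_apply] at h2
    exact h2

section Sub

variable {R S : Type*} [CommRing R] [Algebra k R] [CommRing S] [Algebra k S]

/-- Substitution of the vector `∑ l, y_l M_{·,l}` with entries in `R[y]`. -/
noncomputable def sub {ι τ : Type*} [Fintype τ] (M : ι → τ → R) : MvPolynomial ι k →ₐ[k] MvPolynomial τ R :=
  aeval fun i => ∑ l, C (M i l) * X l

theorem map_sub' {ι τ : Type*} [Fintype τ] (χ : R →ₐ[k] S) (M : ι → τ → R) (f : MvPolynomial ι k) :
    map χ.toRingHom (sub M f) = sub (fun i l => χ (M i l)) f := by
  induction f using MvPolynomial.induction_on with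
  | C a =>
    simp only [sub, algHom_C]
    rw [MvPolynomial.algebraMap_apply, map_C, MvPolynomial.algebraMap_apply]
    congr 1
    exact χ.commutes a
  | add p q hp hq => rw [_root_.map_add, _root_.map_add, hp, hq, _root_.map_add]
  | mul_X p i hp =>
    rw [_root_.map_mul, _root_.map_mul, hp, _root_.map_mul]
    congr 1
    simp [sub]

theorem coeff_sub_map {ι τ : Type*} [Fintype τ] (χ : R →ₐ[k] S) (M : ι → τ → R) (f : MvPolynomial ι k) (e : τ →₀ ℕ) :
    χ (coeff e (sub M f)) = coeff e (sub (fun i l => χ (M i l)) f) := by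
  rw [← map_sub', coeff_map]
  rfl

theorem eval_sub' {ι τ : Type*} [Fintype τ] (M : ι → τ → R) (f : MvPolynomial ι k) (x : τ → R) :
    eval x (sub M f) = aeval (fun i => ∑ l, M i l * x l) f := by
  induction f using MvPolynomial.induction_on with
  | C a =>
    simp only [sub, algHom_C]
    rw [MvPolynomial.algebraMap_apply, eval_C]
  | add p q hp hq => rw [_root_.map_add, _root_.map_add, hp, hq, _root_.map_add]
  | mul_X p i hp =>
    rw [_root_.map_mul, _root_.map_mul, hp, _root_.map_mul]
    congr 1
    simp [sub]

theorem isHomogeneous_sub {ι τ : Type*} [Fintype τ] (M : ι → τ → R) {f : MvPolynomial ι k} {d : ℕ}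
    (hf : f.IsHomogeneous d) : (sub M f).IsHomogeneous d := by
  have h := hf.aeval (fun i => ∑ l, C (M i l) * X l) (n := 1) fun i => by
    refine IsHomogeneous.sum _ _ _ fun l _ => ?_
    simpa using (isHomogeneous_C τ (M i l)).mul (isHomogeneous_X R l)
  rw [one_mul] at h
  exact h

/-- `f` vanishes on the span of the columns of `M` iff the substitution is zero. -/
theorem sub_eq_zero_iff [Infinite k] {ι τ : Type*} [Fintype τ] (M : ι → τ → k) (f : MvPolynomial ι k) :
    sub M f = 0 ↔ ∀ u ∈ Submodule.span k (Set.range fun l i => M i l), eval u f = 0 := by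
  have key : ∀ x : τ → k, eval x (sub M f) = eval (∑ l, x l • fun i => M i l) f := by
    intro x
    rw [eval_sub', MvPolynomial.aeval_eq_eval]
    congr 1
    congr 1
    ext i
    rw [Finset.sum_apply]
    exact Finset.sum_congr rfl fun l _ => by rw [Pi.smul_apply, smul_eq_mul, mul_comm]
  constructor
  · intro h u hu
    obtain ⟨x, rfl⟩ := (Submodule.mem_span_range_iff_exists_fun k).1 hu
    rw [← key, h, _root_.map_zero]
  · intro h
    apply MvPolynomial.funext
    intro x
    rw [key, _root_.map_zero]
    exact h _ ((Submodule.mem_span_range_iff_exists_fun k).2 ⟨x, rfl⟩)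

end Sub

/-- The free entries of a reduced matrix with pivots `J`. -/
abbrev Par {N r : ℕ} (J : Fin r ↪ Fin N) : Type := {i : Fin N // i ∉ Set.range J} × Fin r

noncomputable instance {N r : ℕ} (J : Fin r ↪ Fin N) : Fintype {i : Fin N // i ∉ Set.range J} :=
  Fintype.ofFinite _

theorem card_par {N r : ℕ} (J : Fin r ↪ Fin N) : Fintype.card (Par J) = (N - r) * r := by
  classical
  rw [Fintype.card_prod, Fintype.card_fin]
  congr 1
  have h1 : Fintype.card {i : Fin N // ¬ i ∈ Set.range J} = Fintype.card (Fin N) -
    Fintype.card {i : Fin N // i ∈ Set.range J} := Fintype.card_subtype_compl _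
  have h2 : Fintype.card {i : Fin N // i ∈ Set.range J} = r := by
    have := Set.card_range_of_injective J.injective
    rw [Fintype.card_fin] at this
    exact (Fintype.card_congr (Equiv.refl _)).trans this
  rw [h2, Fintype.card_fin] at h1
  rw [← h1]

open Classical in
/-- The reduced matrix with pivots `J` and free entries `a`. -/
noncomputable def mat {N r : ℕ} (J : Fin r ↪ Fin N) {R : Type*} [CommRing R] (a : Par J → R) (i : Fin N) (l : Fin r) : R :=
  if h : i ∈ Set.range J then (if i = J l then 1 else 0) else a (⟨i, h⟩, l)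

theorem mat_pivot {N r : ℕ} (J : Fin r ↪ Fin N) {R : Type*} [CommRing R] (a : Par J → R) (l l' : Fin r) :
    mat J a (J l') l = if l' = l then 1 else 0 := by
  rw [mat, dif_pos ⟨l', rfl⟩]
  simp

theorem mat_free {N r : ℕ} (J : Fin r ↪ Fin N) {R : Type*} [CommRing R] (a : Par J → R) (p : Par J) :
    mat J a p.1.1 p.2 = a p := by
  rw [mat, dif_neg p.1.2]

theorem map_mat {N r : ℕ} (J : Fin r ↪ Fin N) {R S : Type*} [CommRing R] [CommRing S] (χ : R →+* S)
    (a : Par J → R) (i : Fin N) (l : Fin r) : χ (mat J a i l) = mat J (fun p => χ (a p)) i l := by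
  unfold mat
  split_ifs with h1 h2
  · exact _root_.map_one χ
  · exact _root_.map_zero χ
  · rfl

/-- Every subspace of dimension `r` is the column space of a reduced matrix. -/
theorem exists_mat {N r : ℕ} (U : Submodule k (Fin N → k)) (hU : finrank k U = r) :
    ∃ (J : Fin r ↪ Fin N) (a : Par J → k), Submodule.span k (Set.range fun l i => mat J a i l) = U := by
  obtain ⟨J, b, -, hb2, hb3⟩ := exists_pivot U hU
  refine ⟨J, fun p => b p.2 p.1.1, ?_⟩
  rw [← hb2]
  congr 2
  ext l i
  by_cases h : i ∈ Set.range J
  · obtain ⟨l', rfl⟩ := h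
    rw [mat_pivot, hb3]
  · exact mat_free J _ (⟨i, h⟩, l)

theorem linearIndependent_mat {N r : ℕ} (J : Fin r ↪ Fin N) (a : Par J → k) :
    LinearIndependent k fun (l : Fin r) (i : Fin N) => mat J a i l := by
  rw [Fintype.linearIndependent_iff]
  intro g hg l
  have := congrFun hg (J l)
  rw [Finset.sum_apply, Finset.sum_eq_single l] at this
  · simpa [mat_pivot] using this
  · intro b _ hb
    simp [mat_pivot, hb.symm]
  · simp

theorem finrank_span_mat {N r : ℕ} (J : Fin r ↪ Fin N) (a : Par J → k) :
    finrank k (Submodule.span k (Set.range fun (l : Fin r) (i : Fin N) => mat J a i l)) = r := by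
  rw [finrank_span_eq_card (linearIndependent_mat J a), Fintype.card_fin]

theorem mat_injective {N r : ℕ} (J : Fin r ↪ Fin N) :
    Function.Injective fun a : Par J → k => Submodule.span k (Set.range fun (l : Fin r) (i : Fin N) => mat J a i l) := by
  intro a a' h
  ext p
  have h1 : (fun i => mat J a i p.2) ∈ Submodule.span k (Set.range fun (l : Fin r) (i : Fin N) => mat J a' i l) := by
    have h' : Submodule.span k (Set.range fun (l : Fin r) (i : Fin N) => mat J a i l) =
      Submodule.span k (Set.range fun (l : Fin r) (i : Fin N) => mat J a' i l) := h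
    rw [← h']
    exact Submodule.subset_span ⟨p.2, rfl⟩
  obtain ⟨c, hc⟩ := (Submodule.mem_span_range_iff_exists_fun k).1 h1
  have hc' : ∀ l, c l = if l = p.2 then 1 else 0 := by
    intro l
    have := congrFun hc (J l)
    rw [Finset.sum_apply, Finset.sum_eq_single l] at this
    · rw [mat_pivot] at this
      simpa [mat_pivot] using this
    · intro b _ hb
      simp [mat_pivot, hb.symm]
    · simp
  have h2 := congrFun hc p.1.1
  rw [Finset.sum_apply, Finset.sum_eq_single p.2] at h2
  · rw [mat_free, hc', if_pos rfl] at h2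
    rw [← h2, Pi.smul_apply, one_smul]
    exact mat_free J a' p
  · intro b _ hb
    rw [hc', if_neg hb, zero_smul]
    rfl
  · simp

/-- The substitution of a reduced matrix is surjective on forms: a section is given by renaming. -/
theorem sub_rename {N r : ℕ} (J : Fin r ↪ Fin N) (a : Par J → k) (g : MvPolynomial (Fin r) k) :
    sub (fun i l => mat J a i l) (rename J g) = g := by
  rw [sub, aeval_rename]
  have : ((fun i => ∑ l, C (mat J a i l) * X l) ∘ J : Fin r → MvPolynomial (Fin r) k) = X := by
    ext1 l
    rw [Function.comp_apply, Finset.sum_eq_single l]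
    · rw [mat_pivot, if_pos rfl, _root_.map_one, one_mul]
    · intro b _ hb
      rw [mat_pivot, if_neg hb.symm, _root_.map_zero, zero_mul]
    · simp
  rw [this, aeval_X_left, AlgHom.id_apply]

end K713.Chart
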