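import Groth.Agent.Lefpen.H703.Elim
import Groth.Agent.Lefpen.H703.NondegOpen
import Mathlib.LinearAlgebra.FiniteDimensional.Lemmas

/-!
# The forms whose hypersurface contains no line form a Zariski open set
-/

set_option autoImplicit false
universe u

namespace K713.LineOpen

open LefPen Groth.Agent.Lefpen.H703.ZOpen Groth.Agent.Lefpen.H703.Elim Groth.Agent.Lefpen.H703.NondegOpen MvPolynomial

variable {k : Type u} [Field k]

/-- `f` vanishes on some two-dimensional subspace, in terms of two vectors. -/
def HasLine {N : ℕ} (f : MvPolynomial (Fin N) k) : Prop :=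
  ∃ u v : Fin N → k, LinearIndependent k ![u, v] ∧ ∀ s t : k, eval (s • u + t • v) f = 0

theorem hasLine_iff {N : ℕ} (f : MvPolynomial (Fin N) k) :
    HasLine f ↔ ∃ U : Submodule k (Fin N → k), Module.finrank k U = 2 ∧ ∀ u ∈ U, eval u f = 0 := by
  constructor
  · rintro ⟨u, v, huv, h⟩
    refine ⟨Submodule.span k (Set.range ![u, v]), ?_, ?_⟩
    · rw [finrank_span_eq_card huv, Fintype.card_fin]
    · intro w hw
      rw [Matrix.range_cons, Matrix.range_cons, Matrix.range_empty, Set.union_empty, Set.singleton_union,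
        Submodule.mem_span_pair] at hw
      obtain ⟨s, t, rfl⟩ := hw
      exact h s t
  · rintro ⟨U, hU, h⟩
    have : 1 < Module.finrank k U := by omega
    obtain ⟨x, hx⟩ : ∃ x : U, x ≠ 0 := by
      by_contra hcon
      push Not at hcon
      have : Subsingleton U := ⟨fun a b => by rw [hcon a, hcon b]⟩
      rw [Module.finrank_zero_of_subsingleton] at hU
      omega
    obtain ⟨y, hy⟩ := exists_linearIndependent_pair_of_one_lt_finrank (R := k) this hx
    refine ⟨x, y, ?_, fun s t => h _ (U.add_mem (U.smul_mem _ x.2) (U.smul_mem _ y.2))⟩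
    have h1 := hy.map' U.subtype (Submodule.ker_subtype U)
    have h2 : (U.subtype ∘ ![x, y]) = ![x.1, y.1] := by
      funext i
      fin_cases i <;> rfl
    rw [h2] at h1
    exact h1

/-- A subspace of dimension at least two on which `f` vanishes gives a line. -/
theorem hasLine_of_one_lt_finrank {N : ℕ} (f : MvPolynomial (Fin N) k) (U : Submodule k (Fin N → k))
    (hU : 1 < Module.finrank k U) (h : ∀ u ∈ U, eval u f = 0) : HasLine f := by
  obtain ⟨x, hx⟩ : ∃ x : U, x ≠ 0 := by
    by_contra hcon
    push Not at hcon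
    have : Subsingleton U := ⟨fun a b => by rw [hcon a, hcon b]⟩
    rw [Module.finrank_zero_of_subsingleton] at hU
    omega
  obtain ⟨y, hy⟩ := exists_linearIndependent_pair_of_one_lt_finrank (R := k) hU hx
  refine ⟨x, y, ?_, fun s t => h _ (U.add_mem (U.smul_mem _ x.2) (U.smul_mem _ y.2))⟩
  have h1 := hy.map' U.subtype (Submodule.ker_subtype U)
  have h2 : (U.subtype ∘ ![x, y]) = ![x.1, y.1] := by
    funext i
    fin_cases i <;> rfl
  rw [h2] at h1
  exact h1

/-- Alternating matrices. -/
def Alt (k : Type u) [Field k] (N : ℕ) : Submodule k (Fin N → Fin N → k) where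
  carrier := {ω | (∀ i j, ω i j = - ω j i) ∧ ∀ i, ω i i = 0}
  zero_mem' := by simp
  add_mem' := by
    rintro a b ⟨h1, h2⟩ ⟨h3, h4⟩
    refine ⟨fun i j => ?_, fun i => ?_⟩
    · simp only [Pi.add_apply]; rw [h1 i j, h3 i j]; ring
    · simp [h2, h4]
  smul_mem' := by
    rintro c a ⟨h1, h2⟩
    refine ⟨fun i j => ?_, fun i => ?_⟩
    · simp only [Pi.smul_apply, smul_eq_mul]; rw [h1 i j]; ring
    · simp [h2]

/-- application of a matrix -/
def app {N : ℕ} (x : Fin N → k) : (Fin N → Fin N → k) →ₗ[k] (Fin N → k) where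
  toFun ω i := ∑ j, ω i j * x j
  map_add' ω ω' := by
    funext i
    simp only [Pi.add_apply, add_mul, Finset.sum_add_distrib]
  map_smul' c ω := by
    funext i
    simp only [Pi.smul_apply, smul_eq_mul, RingHom.id_apply, Finset.mul_sum, mul_assoc]

theorem app_smul {N : ℕ} (c : k) (x : Fin N → k) (ω : Fin N → Fin N → k) : app (c • x) ω = c • app x ω := by
  funext i
  simp only [app, LinearMap.coe_mk, AddHom.coe_mk, Pi.smul_apply, smul_eq_mul, Finset.mul_sum]
  exact Finset.sum_congr rfl fun j _ => by ring

theorem app_add {N : ℕ} (x y : Fin N → k) (ω : Fin N → Fin N → k) : app (x + y) ω = app x ω + app y ω := by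
  funext i
  simp only [app, LinearMap.coe_mk, AddHom.coe_mk, Pi.add_apply, ← Finset.sum_add_distrib]
  exact Finset.sum_congr rfl fun j _ => by ring

theorem not_hasLine_iff {N : ℕ} (f : MvPolynomial (Fin N) k) :
    ¬ HasLine f ↔ ∀ ω : Alt k N, ω ≠ 0 → ∃ x, eval (app x ω.1) f ≠ 0 := by
  constructor
  · intro h ω hω
    by_contra hcon
    push Not at hcon
    apply h
    -- find a nonzero entry
    obtain ⟨i, j, hij⟩ : ∃ i j, ω.1 i j ≠ 0 := by
      by_contra hc
      push Not at hc
      apply hω
      ext i j
      exact hc i j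
    refine ⟨app (Pi.single i 1) ω.1, app (Pi.single j 1) ω.1, ?_, fun s t => ?_⟩
    · have key : ∀ l m, app (Pi.single l 1) ω.1 m = ω.1 m l := by
        intro l m
        change ∑ j, ω.1 m j * (Pi.single l 1 : Fin N → k) j = _
        rw [Finset.sum_eq_single l (fun b _ hb => by rw [Pi.single_eq_of_ne hb, mul_zero]) (by simp),
          Pi.single_eq_same, mul_one]
      rw [LinearIndependent.pair_iff]
      intro s t hst
      have h1 := congrFun hst i
      have h2 := congrFun hst j
      simp only [Pi.add_apply, Pi.smul_apply, smul_eq_mul, key, Pi.zero_apply, ω.2.2] at h1 h2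
      rw [ω.2.1 j i] at h2
      constructor
      · have : s * ω.1 i j = 0 := by linear_combination -h2
        exact (mul_eq_zero.1 this).resolve_right hij
      · have : t * ω.1 i j = 0 := by linear_combination h1
        exact (mul_eq_zero.1 this).resolve_right hij
    · rw [← app_smul, ← app_smul, ← app_add]
      exact hcon _
  · rintro h ⟨u, v, huv, hf⟩
    rw [LinearIndependent.pair_iff] at huv
    let ω : Alt k N := ⟨fun i j => u i * v j - v i * u j, fun i j => by ring, fun i => by ring⟩
    have hω : ω ≠ 0 := by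
      intro h0
      have h1 : ∀ i j, u i * v j - v i * u j = 0 := fun i j => congrFun (congrFun (congrArg Subtype.val h0) i) j
      have hv : v = 0 := by
        ext j
        have := huv (v j) (- u j) (by
          ext i
          simp only [Pi.add_apply, Pi.smul_apply, smul_eq_mul, Pi.zero_apply]
          linear_combination h1 i j)
        exact this.1
      have := huv 0 1 (by rw [hv]; simp)
      exact one_ne_zero this.2
    obtain ⟨x, hx⟩ := h ω hω
    apply hx
    have : app x ω.1 = (∑ j, v j * x j) • u + (- ∑ j, u j * x j) • v := by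
      funext i
      change ∑ j, (u i * v j - v i * u j) * x j = _
      simp only [Pi.add_apply, Pi.smul_apply, smul_eq_mul, Finset.sum_mul, sub_mul, Finset.sum_sub_distrib, neg_mul]
      rw [sub_eq_add_neg]
      congr 1
      · exact Finset.sum_congr rfl fun j _ => by ring
      · congr 1
        exact Finset.sum_congr rfl fun j _ => by ring
    rw [this]
    exact hf _ _

theorem isPolyFun_eval_comp {V : Type u} [AddCommGroup V] [Module k V] {n d : ℕ} {φ : V → (Fin (n + 1) → k)}
    {ψ : V → Form n k d} (hφ : IsPolyMap k φ) (hψ : IsPolyMap k ψ) : IsPolyFun k (fun p => eval (φ p) (ψ p).1) := by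
  have h2 := isPolyFun_eval_linear (V := Form n k d) (CohB1.polyGrading n k d).subtype
  have h3 := pm_prodMk hφ hψ
  have h4 := pf_comp h2 h3
  simp only [Submodule.subtype_apply] at h4
  exact h4

/-- The forms whose hypersurface contains no line form a Zariski open set. -/
theorem isZOpen_not_hasLine [IsAlgClosed k] (n d : ℕ) : IsZOpen k {f : Form n k d | ¬ HasLine f.1} := by
  have h1 : IsZOpen k {p : Alt k (n + 1) × Form n k d | ∃ x, eval (app x p.1.1) p.2.1 ≠ 0} := by
    refine isZOpen_compl_zeros (f := fun (x : Fin (n + 1) → k) (p : Alt k (n + 1) × Form n k d) =>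
      eval (app x p.1.1) p.2.1) fun x => ?_
    refine isPolyFun_eval_comp (V := Alt k (n + 1) × Form n k d) (φ := fun p => app x p.1.1) (ψ := fun p => p.2) ?_
      isPolyMap_snd
    exact isPolyMap_linear (V := Alt k (n + 1) × Form n k d) (W := (Fin (n + 1) → k))
        ((app x).comp ((Alt k (n + 1)).subtype.comp (LinearMap.fst k _ _)))
  have h2 := isZOpen_forall_ne_zero (k := k) (E := Alt k (n + 1)) (V := Form n k d) h1 (by
    rintro ω f c hc ⟨x, hx⟩
    refine ⟨c⁻¹ • x, ?_⟩
    have : app (c⁻¹ • x) (c • ω).1 = app x ω.1 := by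
      rw [app_smul]
      change c⁻¹ • app x (c • ω.1) = _
      rw [map_smul, smul_smul, inv_mul_cancel₀ hc, one_smul]
    change eval (app (c⁻¹ • x) (c • ω).1) f.1 ≠ 0
    rw [this]
    exact hx)
  refine (isZOpen_congr fun f => ?_).1 h2
  exact (not_hasLine_iff f.1).symm

end K713.LineOpen
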