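import Groth.Agent.Fano.K713.Discr

/-!
# The discriminant hypersurface: irreducibility
-/

set_option autoImplicit false
universe u

namespace K713.Discr

open LefPen Groth.Agent.Lefpen.H703 Groth.Agent.Lefpen.H703.ZOpen Groth.Agent.Lefpen.H703.NondegOpen
  MvPolynomial Module K713.PolyCoord K714.LinSp K713.ParamIrr

variable {k : Type u} [Field k]

/-- There are smooth forms. -/
theorem exists_smooth [IsAlgClosed k] (n d : ℕ) (hd : 2 ≤ d) : ∃ G : Form n k d, ∀ v : Fin (n + 1) → k, v ≠ 0 →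
    eval v G.1 = 0 → ∃ i, eval v (pderiv i G.1) ≠ 0 := by
  have : Infinite k := IsAlgClosed.instInfinite
  have h := SmoothGen.isGeneric_smooth (k := k) n d hd ⊥ (by rw [finrank_bot]; omega) ⊤ (fun G => by
    refine ⟨fun _ u hu => ?_, fun _ => Submodule.mem_top⟩
    rw [Submodule.mem_bot] at hu
    subst hu
    have h1 := Elim.eval_smul_of_isHomogeneous (n := d) G.2 (0 : k) 0
    rw [zero_smul, zero_pow (by omega), zero_mul] at h1
    exact h1)
  obtain ⟨G, hG⟩ := Groth.Agent.Lefpen.H702.PolyFun.IsGeneric.nonempty h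
  exact ⟨G.1, hG⟩

/-- The cone over a smooth hypersurface. -/
theorem exists_cone [IsAlgClosed k] (n d : ℕ) (hn : 1 ≤ n) (hd : 2 ≤ d) : ∃ H : Form n k d, H ∈ W0 n d ∧
    ∀ v : Fin (n + 1) → k, eval v H.1 = 0 → (∀ i, eval v (pderiv i H.1) = 0) → ∀ i : Fin n, v i.succ = 0 := by
  classical
  obtain ⟨m, rfl⟩ : ∃ m, n = m + 1 := ⟨n - 1, by omega⟩
  obtain ⟨g, hg⟩ := exists_smooth (k := k) m d hd
  let H : Form (m + 1) k d := ⟨rename Fin.succ g.1, (mem_homogeneousSubmodule _ _).2 (IsHomogeneous.rename_isHomogeneous g.2)⟩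
  have hev : ∀ v, eval v H.1 = eval (v ∘ Fin.succ) g.1 := fun v => eval_rename _ _ _
  have hp : ∀ v i, eval v (pderiv (Fin.succ i) H.1) = eval (v ∘ Fin.succ) (pderiv i g.1) := by
    intro v i
    change eval v (pderiv (Fin.succ i) (rename Fin.succ g.1)) = _
    rw [pderiv_rename (Fin.succ_injective _), eval_rename]
  have hp0 : pderiv 0 H.1 = 0 := by
    apply pderiv_eq_zero_of_notMem_vars
    intro h
    have := (vars_rename (Fin.succ) g.1) h
    rw [Finset.mem_image] at this
    obtain ⟨j, -, hj⟩ := this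
    exact Fin.succ_ne_zero j hj
  refine ⟨H, ⟨?_, ?_⟩, ?_⟩
  · rw [hev]
    have h0 : (e0 (m + 1) : Fin (m + 1 + 1) → k) ∘ Fin.succ = 0 := by
      funext i; simp [e0]
    rw [h0]
    have h1 := Elim.eval_smul_of_isHomogeneous (n := d) g.2 (0 : k) 0
    rw [zero_smul, zero_pow (by omega), zero_mul] at h1
    exact h1
  · intro i
    refine Fin.cases ?_ (fun i => ?_) i
    · rw [hp0, map_zero]
    · rw [hp]
      have h0 : (e0 (m + 1) : Fin (m + 1 + 1) → k) ∘ Fin.succ = 0 := by
        funext i; simp [e0]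
      rw [h0]
      have h1 := Elim.eval_smul_of_isHomogeneous (isHomogeneous_pderiv g.2 i) (0 : k) 0
      rw [zero_smul, zero_pow (by omega), zero_mul] at h1
      exact h1
  · intro v hv hvi
    have h1 : v ∘ Fin.succ = 0 := by
      by_contra hne
      rw [hev] at hv
      obtain ⟨i, hi⟩ := hg _ hne hv
      apply hi
      rw [← hp]
      exact hvi _
    exact fun i => congrFun h1 i

theorem exists_iota (n d : ℕ) {m : ℕ} (c : Form n k d ≃ₗ[k] (Fin m → k)) :
    ∃ (w : ℕ) (ι : (Fin w → k) →ₗ[k] Form n k d), m ≤ w + (n + 1) ∧ Function.Injective ι ∧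
      (∀ y, ι y ∈ W0 n d) ∧ ∀ H, H ∈ W0 n d → ∃ y, ι y = H := by
  classical
  -- the conditions
  let F : Form n k d →ₗ[k] (Fin (n + 1) → k) :=
    LinearMap.pi fun i => if i = 0 then
      (aeval (e0 n) : MvPolynomial (Fin (n + 1)) k →ₐ[k] k).toLinearMap ∘ₗ (homogeneousSubmodule (Fin (n + 1)) k d).subtype
      else (aeval (e0 n) : MvPolynomial (Fin (n + 1)) k →ₐ[k] k).toLinearMap ∘ₗ (pderiv i : Derivation k _ _).toLinearMap
        ∘ₗ (homogeneousSubmodule (Fin (n + 1)) k d).subtype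
  have hF0 : ∀ G, F G 0 = eval (e0 n) G.1 := by
    intro G
    simp only [F, LinearMap.pi_apply, if_true]
    change aeval (e0 n) G.1 = _
    rw [MvPolynomial.aeval_eq_eval]
  have hFi : ∀ G i, i ≠ 0 → F G i = eval (e0 n) (pderiv i G.1) := by
    intro G i hi
    simp only [F, LinearMap.pi_apply, if_neg hi]
    change aeval (e0 n) (pderiv i G.1) = _
    rw [MvPolynomial.aeval_eq_eval]
  have hker : ∀ G, F G = 0 → G ∈ W0 n d := by
    intro G hG
    have h0 : eval (e0 n) G.1 = 0 := by rw [← hF0, hG]; rfl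
    have hi : ∀ i, i ≠ 0 → eval (e0 n) (pderiv i G.1) = 0 := fun i hi => by rw [← hFi G i hi, hG]; rfl
    refine ⟨h0, fun i => ?_⟩
    by_cases hi0 : i = 0
    · subst hi0
      have h1 := congrArg (eval (e0 n)) (IsHomogeneous.sum_X_mul_pderiv G.2)
      rw [map_sum, nsmul_eq_mul, map_mul, h0, mul_zero, Finset.sum_eq_single 0] at h1
      · simpa [e0] using h1
      · intro j _ hj
        rw [map_mul, eval_X]
        simp [e0, hj]
      · simp
    · exact hi i hi0
  let F' : (Fin m → k) →ₗ[k] (Fin (n + 1) → k) := F ∘ₗ c.symm.toLinearMap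
  let S : Submodule k (Fin m → k) := (W0 n d).comap c.symm.toLinearMap
  have hS : LinearMap.ker F' ≤ S := fun x hx => hker _ hx
  let b := Module.finBasis k S
  refine ⟨finrank k S, c.symm.toLinearMap ∘ₗ S.subtype ∘ₗ b.equivFun.symm.toLinearMap, ?_, ?_, ?_, ?_⟩
  · have h1 := LinearMap.finrank_range_add_finrank_ker F'
    have h2 := Submodule.finrank_le (LinearMap.range F')
    have h3 := Submodule.finrank_mono hS
    rw [Module.finrank_fin_fun] at h1 h2
    omega
  · exact c.symm.injective.comp (S.subtype_injective.comp b.equivFun.symm.injective)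
  · intro y
    exact (b.equivFun.symm y).2
  · intro H hH
    refine ⟨b.equivFun ⟨c H, ?_⟩, ?_⟩
    · change c.symm (c H) ∈ W0 n d
      rwa [LinearEquiv.symm_apply_apply]
    · change c.symm ((b.equivFun.symm (b.equivFun ⟨c H, _⟩) : S) : Fin m → k) = H
      rw [LinearEquiv.symm_apply_apply, LinearEquiv.symm_apply_apply]

/-- the unipotent matrices -/
def Bm {n : ℕ} (a : Fin n → k) : Fin (n + 1) → Fin (n + 1) → k :=
  fun l => if l = 0 then Fin.cases 1 fun i => - a i else Pi.single l 1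

theorem sum_Bm {n : ℕ} (a : Fin n → k) (x : Fin (n + 1) → k) :
    ∑ l, x l • Bm a l = Fin.cases (x 0) fun i => x i.succ - a i * x 0 := by
  classical
  rw [Fin.sum_univ_succ]
  funext j
  simp only [Pi.add_apply, Finset.sum_apply, Pi.smul_apply, smul_eq_mul, Bm, if_true, if_neg (Fin.succ_ne_zero _)]
  refine Fin.cases ?_ (fun i => ?_) j
  · simp
  · simp only [Fin.cases_succ]
    rw [Finset.sum_eq_single i]
    · simp; ring
    · intro b _ hb
      have : (Fin.succ i) ≠ Fin.succ b := fun h => hb (Fin.succ_injective _ h).symm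
      simp [this]
    · simp

theorem Bm_eq {n : ℕ} (a : Fin n → k) : Bm a = Bm (0 : Fin n → k) + (fun l => if l = 0 then Fin.cases 0 fun i => - a i else 0) := by
  funext l
  simp only [Bm, Pi.add_apply]
  split_ifs with h
  · funext j
    refine Fin.cases ?_ (fun i => ?_) j
    · simp
    · simp
  · simp

/-- the linear part of the family of unipotent matrices -/
def BL (n : ℕ) : (Fin n → k) →ₗ[k] (Fin (n + 1) → Fin (n + 1) → k) where
  toFun a := fun l => if l = 0 then Fin.cases 0 fun i => - a i else 0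
  map_add' a b := by
    funext l j
    simp only [Pi.add_apply]
    split_ifs with h
    · refine Fin.cases ?_ (fun i => ?_) j
      · simp
      · simp; ring
    · simp
  map_smul' c a := by
    funext l j
    simp only [Pi.smul_apply, RingHom.id_apply]
    split_ifs with h
    · refine Fin.cases ?_ (fun i => ?_) j
      · simp
      · simp
    · simp

/-- the chart of the variety of singular forms -/
noncomputable def phi {n d w : ℕ} (ι : (Fin w → k) →ₗ[k] Form n k d) (p : (Fin n → k) × (Fin w → k)) : Form n k d :=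
  compForm (Bm p.1) (ι p.2)

theorem isPolyMap_phi [Infinite k] {n d w : ℕ} (ι : (Fin w → k) →ₗ[k] Form n k d) : IsPolyMap k (phi ι) := by
  have h2 : IsPolyMap k (fun p : (Fin n → k) × (Fin w → k) => Bm p.1) := by
    have h3 := pm_add (isPolyMap_const (V := (Fin n → k) × (Fin w → k)) (Bm (0 : Fin n → k)))
      (isPolyMap_linear ((BL (k := k) n) ∘ₗ LinearMap.fst k (Fin n → k) (Fin w → k)))
    intro l
    have h4 := h3 l
    have h5 : ∀ p : (Fin n → k) × (Fin w → k), Bm p.1 = Bm (0 : Fin n → k) +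
        ((BL (k := k) n) ∘ₗ LinearMap.fst k (Fin n → k) (Fin w → k)) p := fun p => Bm_eq p.1
    simp only [h5]
    exact h4
  have h3 : IsPolyMap k (fun p : (Fin n → k) × (Fin w → k) => ι p.2) :=
    isPolyMap_linear (ι ∘ₗ LinearMap.snd k (Fin n → k) (Fin w → k))
  have h4 := pm_comp (isPolyMap_compForm (k := k) n d) (pm_prodMk h2 h3)
  exact h4

/-- the parametrization of the variety of singular forms -/
noncomputable def Phi {n d w : ℕ} (ι : (Fin w → k) →ₗ[k] Form n k d)
    (p : (Fin (n + 1) → Fin (n + 1) → k) × (Fin w → k)) : Form n k d := compForm p.1 (ι p.2)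

theorem isPolyMap_Phi [Infinite k] {n d w : ℕ} (ι : (Fin w → k) →ₗ[k] Form n k d) : IsPolyMap k (Phi ι) := by
  have h3 : IsPolyMap k (fun p : (Fin (n + 1) → Fin (n + 1) → k) × (Fin w → k) => ι p.2) :=
    isPolyMap_linear (ι ∘ₗ LinearMap.snd k (Fin (n + 1) → Fin (n + 1) → k) (Fin w → k))
  have h4 := pm_comp (isPolyMap_compForm (k := k) n d) (pm_prodMk isPolyMap_fst h3)
  exact h4

theorem range_Phi [Infinite k] {n d w : ℕ} {ι : (Fin w → k) →ₗ[k] Form n k d} (h1 : ∀ y, ι y ∈ W0 n d)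
    (h2 : ∀ H, H ∈ W0 n d → ∃ y, ι y = H) : Set.range (Phi ι) = Z k n d := by
  ext G
  rw [mem_Z_iff]
  constructor
  · rintro ⟨⟨b, y⟩, rfl⟩
    exact ⟨b, ι y, h1 y, rfl⟩
  · rintro ⟨b, H, hH, rfl⟩
    obtain ⟨y, rfl⟩ := h2 H hH
    exact ⟨(b, y), rfl⟩

theorem phi_mem_Z {n d w : ℕ} {ι : (Fin w → k) →ₗ[k] Form n k d} (h1 : ∀ y, ι y ∈ W0 n d)
    (p : (Fin n → k) × (Fin w → k)) : phi ι p ∈ Z k n d := compForm_mem_Z _ (h1 p.2)

/-- an isolated point -/
theorem phi_isolated [Infinite k] {n d w : ℕ} {ι : (Fin w → k) →ₗ[k] Form n k d} (hι : Function.Injective ι)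
    (h1 : ∀ y, ι y ∈ W0 n d) (y₀ : Fin w → k)
    (hcone : ∀ v : Fin (n + 1) → k, eval v (ι y₀).1 = 0 → (∀ i, eval v (pderiv i (ι y₀).1) = 0) →
      ∀ i : Fin n, v i.succ = 0)
    (p : (Fin n → k) × (Fin w → k)) (hp : phi ι p = phi ι (0, y₀)) : p = (0, y₀) := by
  obtain ⟨a, y⟩ := p
  have h0 : ∀ y, phi ι (0, y) = ι y := by
    intro y
    refine form_ext fun x => ?_
    rw [phi, eval_compForm, sum_Bm]
    congr 1
    congr 1
    funext j
    refine Fin.cases ?_ (fun i => ?_) j
    · simp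
    · simp
  rw [h0] at hp
  -- the point `(1, a)`
  let v : Fin (n + 1) → k := Fin.cases 1 a
  have hv : ∑ l, v l • Bm a l = e0 n := by
    rw [sum_Bm]
    funext j
    refine Fin.cases ?_ (fun i => ?_) j
    · simp [v, e0]
    · simp [v, e0]
  have ha : a = 0 := by
    funext i
    refine hcone v ?_ ?_ i
    · rw [← hp, phi, eval_compForm, hv, (h1 y).1]
    · intro i
      rw [← hp, phi, eval_pderiv_compForm, hv]
      exact Finset.sum_eq_zero fun s _ => by rw [(h1 y).2, mul_zero]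
  subst ha
  rw [h0] at hp
  rw [Prod.mk.injEq]
  exact ⟨rfl, hι hp⟩

theorem compl_Z (n d : ℕ) : (Z k n d)ᶜ = {Q : Form n k d | SingFree Q.1} := by
  ext G
  rw [Set.mem_compl_iff, Z, Set.mem_ofPred_eq, Set.mem_ofPred_eq, SingFree]
  push Not
  refine forall_congr' fun v => forall_congr' fun hv => ?_
  rw [or_iff_not_imp_left, not_not]

/-- The polynomial functions in coordinates. -/
noncomputable def polyHom {V : Type u} [AddCommGroup V] [Module k V] {m : ℕ} (c : V ≃ₗ[k] (Fin m → k)) :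
    MvPolynomial (Fin m) k →ₐ[k] PolyAlg k V :=
  aeval fun i => (⟨fun v => c v i, isPolyFun_linear' ((LinearMap.proj i).comp c.toLinearMap)⟩ : PolyAlg k V)

theorem polyHom_apply {V : Type u} [AddCommGroup V] [Module k V] {m : ℕ} (c : V ≃ₗ[k] (Fin m → k))
    (p : MvPolynomial (Fin m) k) (v : V) : (polyHom c p).1 v = eval (c v) p := by
  induction p using MvPolynomial.induction_on with
  | C a => simp [polyHom]
  | add p q hp hq => rw [map_add, map_add, ← hp, ← hq]; rfl
  | mul_X p i hp =>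
    rw [map_mul, map_mul, ← hp, eval_X]
    have : polyHom c (X i) = ⟨fun v => c v i, isPolyFun_linear' ((LinearMap.proj i).comp c.toLinearMap)⟩ :=
      aeval_X _ _
    rw [this]
    rfl

theorem polyHom_bijective [Infinite k] {V : Type u} [AddCommGroup V] [Module k V] {m : ℕ}
    (c : V ≃ₗ[k] (Fin m → k)) : Function.Bijective (polyHom c) := by
  constructor
  · rw [injective_iff_map_eq_zero]
    intro p hp
    refine MvPolynomial.funext fun x => ?_
    rw [map_zero]
    have := polyHom_apply c p (c.symm x)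
    rw [LinearEquiv.apply_symm_apply] at this
    rw [← this, hp]
    rfl
  · rintro ⟨f, hf⟩
    obtain ⟨p, hp⟩ := exists_polynomial_of_isPolyFun c hf
    refine ⟨p, Subtype.ext (funext fun v => ?_)⟩
    rw [polyHom_apply]
    have := hp v
    rw [MvPolynomial.aeval_eq_eval] at this
    exact this.symm

theorem exists_not_mem_Z [IsAlgClosed k] (n d : ℕ) (hd : 2 ≤ d) : ∃ G, G ∉ Z k n d := by
  obtain ⟨G, hG⟩ := exists_smooth (k := k) n d hd
  refine ⟨G, ?_⟩
  rintro ⟨v, hv, h0, hi⟩
  obtain ⟨i, hi'⟩ := hG v hv h0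
  exact hi' (hi i)

theorem exists_separate [IsAlgClosed k] (n d : ℕ) {m : ℕ} (c : Form n k d ≃ₗ[k] (Fin m → k)) {G : Form n k d}
    (hG : G ∉ Z k n d) : ∃ p ∈ vanishingIdeal k (c '' Z k n d), eval (c G) p ≠ 0 := by
  have hopen : IsZOpen k (Z k n d)ᶜ := by
    rw [compl_Z]
    exact isZOpen_singFree_aux (Submodule.subtype _) d fun w => (mem_homogeneousSubmodule _ _).1 w.2
  obtain ⟨f, hf, hfG, hfZ⟩ := hopen G hG
  obtain ⟨p, hp⟩ := exists_polynomial_of_isPolyFun c hf
  refine ⟨p, ?_, ?_⟩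
  · rw [mem_vanishingIdeal_iff]
    rintro _ ⟨H, hH, rfl⟩
    rw [← hp]
    by_contra hne
    exact hfZ H hne hH
  · rw [← MvPolynomial.aeval_eq_eval, ← hp]
    exact hfG

/-- The singular forms are the zeros of an irreducible polynomial. -/
theorem exists_discr [IsAlgClosed k] (n d : ℕ) (hn : 1 ≤ n) (hd : 2 ≤ d) {m : ℕ}
    (c : Form n k d ≃ₗ[k] (Fin m → k)) :
    ∃ p : MvPolynomial (Fin m) k, Irreducible p ∧ ∀ G, G ∈ Z k n d ↔ eval (c G) p = 0 := by
  classical
  have : Infinite k := IsAlgClosed.instInfinite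
  obtain ⟨w, ι, hw, hι, h1, h2⟩ := exists_iota n d c
  have hrange : Set.range (fun p => c (Phi ι p)) = c '' Z k n d := by
    rw [← range_Phi h1 h2, ← Set.range_comp]
    rfl
  set I := vanishingIdeal k (c '' Z k n d) with hI
  have hIp : I.IsPrime := by
    rw [hI, ← hrange]
    exact isPrime c (isPolyMap_Phi ι)
  -- nonzero
  have hI0 : I ≠ ⊥ := by
    obtain ⟨G, hG⟩ := exists_not_mem_Z (k := k) n d hd
    obtain ⟨p, hp, hpG⟩ := exists_separate n d c hG
    intro h0
    rw [← hI, h0, Ideal.mem_bot] at hp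
    rw [hp, map_zero] at hpG
    exact hpG rfl
  -- height
  obtain ⟨H, hH, hcone⟩ := exists_cone (k := k) n d hn hd
  obtain ⟨y₀, rfl⟩ := h2 H hH
  have b : ((Fin n → k) × (Fin w → k)) ≃ₗ[k] (Fin (n + w) → k) :=
    LinearEquiv.ofFinrankEq _ _ (by simp [Module.finrank_prod])
  have hheight := height_add_le c b (isPolyMap_phi ι) (0, y₀) (phi_isolated hι h1 y₀ hcone)
  have hle : I ≤ vanishingIdeal k (Set.range fun y => c (phi ι y)) := by
    refine vanishingIdeal_anti_mono ?_
    rintro _ ⟨y, rfl⟩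
    exact ⟨_, phi_mem_Z h1 y, rfl⟩
  have hI1 : I.height = 1 := by
    refine le_antisymm ?_ ?_
    · have h1 := Ideal.height_mono hle
      have h2 : (vanishingIdeal k (Set.range fun y => c (phi ι y))).height + (n + w : ℕ) ≤ 1 + (n + w : ℕ) :=
        hheight.trans (by norm_cast; omega)
      exact h1.trans ((ENat.add_le_add_iff_right (ENat.natCast_ne_top _)).1 h2)
    · rw [Order.one_le_iff_ne_zero]
      intro h0
      exact hI0 (Ideal.height_eq_zero_iff_eq_bot.1 h0)
  obtain ⟨p, hp, hpp⟩ := hIp.exists_mem_prime_of_ne_bot hI0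
  have hspan := Ideal.eq_span_singleton_of_height_eq_one hI1 hp hpp
  refine ⟨p, hpp.irreducible, fun G => ⟨fun hG => ?_, fun hG => ?_⟩⟩
  · rw [hI, mem_vanishingIdeal_iff] at hp
    have := hp _ ⟨G, hG, rfl⟩
    rwa [MvPolynomial.aeval_eq_eval] at this
  · by_contra hGZ
    obtain ⟨q, hq, hqG⟩ := exists_separate n d c hGZ
    rw [← hI, hspan, Ideal.mem_span_singleton] at hq
    obtain ⟨r, rfl⟩ := hq
    rw [map_mul, hG, zero_mul] at hqG
    exact hqG rfl

/-- The discriminant. -/
theorem main [IsAlgClosed k] (n d : ℕ) (hn : 1 ≤ n) (hd : 2 ≤ d) :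
    ∃ Δ : PolyAlg k (Form n k d), Irreducible Δ ∧ ∀ G : Form n k d, G ∈ Z k n d ↔ Δ.1 G = 0 := by
  have : Infinite k := IsAlgClosed.instInfinite
  have c : Form n k d ≃ₗ[k] (Fin (finrank k (Form n k d)) → k) := LinearEquiv.ofFinrankEq _ _ (by simp)
  obtain ⟨p, hp, hpZ⟩ := exists_discr n d hn hd c
  let e : MvPolynomial (Fin (finrank k (Form n k d))) k ≃ₐ[k] PolyAlg k (Form n k d) :=
    AlgEquiv.ofBijective (polyHom c) (polyHom_bijective c)
  refine ⟨e p, (MulEquiv.irreducible_iff e.toMulEquiv).2 hp, fun G => ?_⟩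
  rw [hpZ G]
  have : (e p).1 G = eval (c G) p := polyHom_apply c p G
  rw [this]

end K713.Discr
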