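import Groth.Agent.Fano.K713.NoPlane
import Groth.Agent.Fano.K713.LineOpen
import Groth.Agent.Fano.K713.JacCrit
import Groth.Agent.Fano.K714.LinSp

/-!
# Existence of lines on hypersurfaces of degree `≤ 2n - 3`: dominance
-/

set_option autoImplicit false
universe u

namespace K713.LineDom

open LefPen Groth.Agent.Lefpen.H701 Groth.Agent.Lefpen.H702.PolyFun K713.Chart MvPolynomial K714.LinSp K713.LineOpen

variable {k : Type u} [Field k]

/-- monomials involving some variable of index at least two -/
abbrev WI (n d : ℕ) : Type := {c : FI n d // ∃ i : Fin (n + 1), 2 ≤ i.1 ∧ c.1 i ≠ 0}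

noncomputable instance (n d : ℕ) : Fintype (WI n d) := Fintype.ofFinite _

/-- parameters: a matrix and a form vanishing on the standard line -/
abbrev T (n d : ℕ) : Type := (Fin (n + 1) × Fin (n + 1)) ⊕ WI n d

/-- the form with the given coefficients -/
noncomputable def HH {n d : ℕ} (h : WI n d → k) : MvPolynomial (Fin (n + 1)) k := ∑ c, monomial c.1.1 (h c)

theorem HH_add {n d : ℕ} (h h' : WI n d → k) (t : k) : HH (h + t • h') = HH h + C t * HH h' := by
  simp only [HH, Pi.add_apply, Pi.smul_apply, smul_eq_mul, map_add, Finset.sum_add_distrib, Finset.mul_sum,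
    C_mul_monomial]

theorem HH_isHomogeneous {n d : ℕ} (h : WI n d → k) : (HH h).IsHomogeneous d :=
  IsHomogeneous.sum _ _ _ fun c _ => isHomogeneous_monomial _ c.1.2

theorem eval_HH_eq_zero {n d : ℕ} (h : WI n d → k) (y : Fin (n + 1) → k) (hy : ∀ i, 2 ≤ i.1 → y i = 0) :
    eval y (HH h) = 0 := by
  rw [HH, map_sum]
  refine Finset.sum_eq_zero fun c _ => ?_
  obtain ⟨i, hi, hci⟩ := c.2
  rw [eval_monomial, Finsupp.prod_fintype _ _ (fun _ => pow_zero _), Finset.prod_eq_zero (Finset.mem_univ i), mul_zero]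
  rw [hy i hi, zero_pow hci]

/-- The polynomial map `(g, H) ↦ H ∘ g`, in coordinates. -/
noncomputable def psi (k : Type u) [Field k] (n d : ℕ) (s : FI n d) : MvPolynomial (T n d) k :=
  ∑ c : WI n d, X (Sum.inr c) * rename Sum.inl (coeff s.1
    (Chart.sub (fun i j => (X (i, j) : MvPolynomial (Fin (n + 1) × Fin (n + 1)) k)) (monomial c.1.1 (1 : k))))

theorem eval_psi {n d : ℕ} (x : T n d → k) (s : FI n d) :
    eval x (psi k n d s) = coeff s.1 (Chart.sub (fun i j => x (Sum.inl (i, j))) (HH fun c => x (Sum.inr c))) := by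
  rw [psi, map_sum, HH, map_sum, coeff_sum]
  refine Finset.sum_congr rfl fun c _ => ?_
  have hM : (fun i j => (aeval (x ∘ Sum.inl) : MvPolynomial (Fin (n + 1) × Fin (n + 1)) k →ₐ[k] k) (X (i, j))) =
      fun i j => x (Sum.inl (i, j)) := by
    funext i j
    rw [aeval_X]
    rfl
  rw [map_mul, eval_X, eval_rename, ← MvPolynomial.aeval_eq_eval, coeff_sub_map, hM]
  have h1 : (monomial c.1.1 (x (Sum.inr c)) : MvPolynomial (Fin (n + 1)) k) = x (Sum.inr c) • monomial c.1.1 1 := by
    rw [smul_monomial, smul_eq_mul, mul_one]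
  rw [h1, map_smul, coeff_smul, smul_eq_mul]

theorem eval_form {n d : ℕ} {F : MvPolynomial (Fin (n + 1)) k} (hF : F.IsHomogeneous d) (y : Fin (n + 1) → k) :
    eval y F = ∑ s : FI n d, coeff s.1 F * ∏ i, y i ^ s.1 i := by
  classical
  rw [eval_eq']
  have h1 : F.support ⊆ Finset.univ.map ⟨fun s : FI n d => s.1, Subtype.val_injective⟩ := by
    intro m hm
    have := hF.degree_eq_sum_deg_support hm
    refine Finset.mem_map.2 ⟨⟨m, ?_⟩, Finset.mem_univ _, rfl⟩
    by_contra hne
    exact (mem_support_iff.1 hm) (hF.coeff_eq_zero hne)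
  rw [Finset.sum_subset h1, Finset.sum_map]
  · rfl
  · intro m _ hm
    rw [notMem_support_iff.1 hm, zero_mul]

theorem sum_eval_psi {n d : ℕ} (x : T n d → k) (y : Fin (n + 1) → k) :
    ∑ s : FI n d, eval x (psi k n d s) * ∏ i, y i ^ s.1 i =
      eval (fun i => ∑ j, x (Sum.inl (i, j)) * y j) (HH fun c => x (Sum.inr c)) := by
  have h1 := eval_form (Chart.isHomogeneous_sub (k := k) (R := k) (fun i j => x (Sum.inl (i, j)))
    (HH_isHomogeneous fun c => x (Sum.inr c))) y
  rw [Chart.eval_sub', MvPolynomial.aeval_eq_eval] at h1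
  rw [h1]
  exact Finset.sum_congr rfl fun s _ => by rw [eval_psi]

/-- Forms in the image of the map contain a line. -/
theorem hasLine_psi {n d : ℕ} (hn : 1 ≤ n) (x : T n d → k) (G : Form n k d)
    (hG : ∀ s : FI n d, coeff s.1 G.1 = eval x (psi k n d s)) : HasLine G.1 := by
  let L : (Fin (n + 1) → k) →ₗ[k] ({i : Fin (n + 1) // 2 ≤ i.1} → k) :=
    LinearMap.pi fun i => ∑ j, x (Sum.inl (i.1, j)) • LinearMap.proj j
  have hL : ∀ y i, L y i = ∑ j, x (Sum.inl (i.1, j)) * y j := by
    intro y i
    simp [L]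
  refine hasLine_of_one_lt_finrank G.1 (LinearMap.ker L) ?_ ?_
  · have h1 := LinearMap.finrank_range_add_finrank_ker L
    have h2 : Module.finrank k (LinearMap.range L) ≤ Fintype.card {i : Fin (n + 1) // 2 ≤ i.1} := by
      have := Submodule.finrank_le (LinearMap.range L)
      rwa [Module.finrank_fintype_fun_eq_card] at this
    have h3 : Fintype.card {i : Fin (n + 1) // 2 ≤ i.1} + 2 = n + 1 := by
      have h4 : Fintype.card {i : Fin (n + 1) // 2 ≤ i.1} + Fintype.card {i : Fin (n + 1) // ¬ 2 ≤ i.1} = n + 1 := by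
        have := Fintype.card_subtype_compl (fun i : Fin (n + 1) => 2 ≤ i.1)
        have h5 := Fintype.card_subtype_le (fun i : Fin (n + 1) => 2 ≤ i.1)
        rw [Fintype.card_fin] at this h5
        omega
      have h5 : Fintype.card {i : Fin (n + 1) // ¬ 2 ≤ i.1} = 2 := by
        have e : {i : Fin (n + 1) // ¬ 2 ≤ i.1} ≃ Fin 2 :=
          { toFun := fun i => ⟨i.1.1, by have := i.2; omega⟩
            invFun := fun i => ⟨⟨i.1, by omega⟩, by have := i.2; simp; omega⟩
            left_inv := fun i => rfl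
            right_inv := fun i => rfl }
        rw [Fintype.card_congr e, Fintype.card_fin]
      omega
    rw [Module.finrank_fin_fun] at h1
    omega
  · intro y hy
    rw [eval_form ((mem_homogeneousSubmodule _ _).1 G.2) y]
    simp only [hG]
    rw [sum_eval_psi]
    refine eval_HH_eq_zero _ _ fun i hi => ?_
    have := congrFun (LinearMap.mem_ker.1 hy) ⟨i, hi⟩
    rwa [hL] at this

/-- The differential of the map. -/
theorem sum_pderiv_psi [Infinite k] {n d : ℕ} (x v : T n d → k) (y : Fin (n + 1) → k) :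
    ∑ s : FI n d, (∑ t, v t * eval x (pderiv t (psi k n d s))) * ∏ i, y i ^ s.1 i =
      ∑ i, (∑ j, v (Sum.inl (i, j)) * y j) * eval (fun i => ∑ j, x (Sum.inl (i, j)) * y j)
        (pderiv i (HH fun c => x (Sum.inr c))) +
      eval (fun i => ∑ j, x (Sum.inl (i, j)) * y j) (HH fun c => v (Sum.inr c)) := by
  set gy : Fin (n + 1) → k := fun i => ∑ j, x (Sum.inl (i, j)) * y j with hgy
  set dy : Fin (n + 1) → k := fun i => ∑ j, v (Sum.inl (i, j)) * y j with hdy
  have key : ∑ s : FI n d, lineP x v (psi k n d s) * Polynomial.C (∏ i, y i ^ s.1 i) =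
      lineP gy dy (HH fun c => x (Sum.inr c)) + Polynomial.X * lineP gy dy (HH fun c => v (Sum.inr c)) := by
    refine Polynomial.funext fun t => ?_
    rw [Polynomial.eval_finsetSum]
    simp only [Polynomial.eval_mul, Polynomial.eval_add, Polynomial.eval_C, Polynomial.eval_X, eval_lineP]
    rw [sum_eval_psi]
    have h1 : (fun c : WI n d => (x + t • v) (Sum.inr c)) = (fun c => x (Sum.inr c)) + t • fun c => v (Sum.inr c) := rfl
    have h2 : (fun i => ∑ j, (x + t • v) (Sum.inl (i, j)) * y j) = gy + t • dy := by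
      funext i
      simp only [hgy, hdy, Pi.add_apply, Pi.smul_apply, smul_eq_mul, Finset.mul_sum, ← Finset.sum_add_distrib]
      exact Finset.sum_congr rfl fun j _ => by ring
    rw [h1, h2, HH_add, map_add, map_mul, eval_C]
  have h3 := congrArg (fun p => (Polynomial.derivative p).eval 0) key
  simp only [Polynomial.derivative_sum, Polynomial.derivative_mul, Polynomial.derivative_C, mul_zero, add_zero,
    Polynomial.eval_finsetSum, Polynomial.eval_mul, Polynomial.eval_C, Polynomial.derivative_add,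
    Polynomial.derivative_X, one_mul, Polynomial.eval_add, Polynomial.eval_X, zero_mul,
    eval_derivative_lineP] at h3
  rw [h3]
  congr 1
  rw [eval_lineP, zero_smul, add_zero]

end K713.LineDom
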