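import Groth.Agent.Fano.K713.Chart
import Groth.Agent.Fano.K713.Count
import Groth.Agent.Lefpen.H701.FormSmall

/-!
# Linear subspaces of general hypersurfaces: dimension count
-/

set_option autoImplicit false
universe u

namespace K713.NoPlane

open LefPen Groth.Agent.Lefpen.H701 Groth.Agent.Lefpen.H701.SmallDim Groth.Agent.Lefpen.H701.Rk
  Groth.Agent.Lefpen.H702.PolyFun K713.Chart MvPolynomial

variable {k : Type u} [Field k]

theorem rkLE_mvPolynomial (σ : Type) [Fintype σ] : RkLE k (MvPolynomial σ k) (Fintype.card σ) := by
  intro K _ _ ψ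
  have h1 : Set.range ψ ⊆ cl k (Set.range (fun s : σ => ψ (X s))) := by
    rintro _ ⟨x, rfl⟩
    rw [← mem_clField]
    induction x using MvPolynomial.induction_on with
    | C a =>
      have : ψ (C a) = algebraMap k K a := ψ.commutes a
      rw [this]
      exact (clField k _).algebraMap_mem a
    | add x y hx hy => rw [map_add]; exact add_mem hx hy
    | mul_X p s hp =>
      rw [map_mul]
      refine mul_mem hp ?_
      rw [mem_clField]
      exact subset_cl k _ ⟨s, rfl⟩
  exact (rk_le_of_subset_cl k h1).trans (rk_range_le k _)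

/-- The exponents of degree `d` in `r` variables. -/
abbrev Ex (r d : ℕ) : Type := {e : Fin r →₀ ℕ // e.degree = d}

noncomputable instance (r d : ℕ) : Fintype (Ex r d) := (Finsupp.finite_of_degree_eq d).fintype

theorem card_Ex (r d : ℕ) : Fintype.card (Ex r d) = (r + d - 1).choose d := by
  rw [← Nat.card_eq_fintype_card]; exact Count.card_degree r d

theorem card_FI (r d : ℕ) : Fintype.card (FI r d) = (r + d).choose d := by
  have h := Count.card_degree (r + 1) d
  rw [Nat.card_eq_fintype_card, show r + 1 + d - 1 = r + d by omega] at h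
  convert h

theorem surjective_coeff_sub {n d r : ℕ} (J : Fin r ↪ Fin (n + 1)) (a : Par J → k) :
    Function.Surjective fun (H : Form n k d) (e : Ex r d) => coeff e.1 (sub (fun i l => mat J a i l) H.1) := by
  classical
  intro z
  let g : MvPolynomial (Fin r) k := ∑ e : Ex r d, monomial e.1 (z e)
  have hg : g.IsHomogeneous d := IsHomogeneous.sum _ _ _ fun e _ => isHomogeneous_monomial _ e.2
  refine ⟨⟨rename J g, (mem_homogeneousSubmodule _ _).2 hg.rename_isHomogeneous⟩, ?_⟩
  ext e
  change coeff e.1 (sub (fun i l => mat J a i l) (rename J g)) = z e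
  rw [sub_rename, coeff_sum, Finset.sum_eq_single e]
  · simp
  · intro b _ hb
    rw [coeff_monomial, if_neg]
    exact fun h => hb (Subtype.ext h)
  · simp

/-- The general hypersurface of degree `d` contains no `(r-1)`-plane if `r (n + 1 - r) < C(r + d - 1, d)`. -/
theorem isGeneric_no_subspace [Infinite k] (n d r : ℕ) (h : (n + 1 - r) * r < (r + d - 1).choose d) :
    IsGeneric k {G : Form n k d | ∀ U : Submodule k (Fin (n + 1) → k),
      Module.finrank k ↥U = r → (∀ u ∈ U, MvPolynomial.eval u G.1 = 0) → False} := by
  classical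
  have h1 : ∀ J : Fin r ↪ Fin (n + 1), FSmall k n d ((Fintype.card (FI n d) - 1 : ℕ) : ℕ∞)
      {H : Form n k d | ∃ a : Par J → k, sub (fun i l => mat J a i l) H.1 = 0} := by
    intro J
    have h2 := fsmall_count (k := k) (r := n) (d := d) (M := Ex r d) (R := MvPolynomial (Par J) k)
      (e := Fintype.card (Par J)) (z := 0) (t := Fintype.card (FI n d) - 1)
      (rkLE_mvPolynomial (Par J))
      (fun e =>
        { toFun := fun H => coeff e.1 (sub (fun i l => mat J (fun p => X p) i l) H.1)
          map_add' := fun H H' => by simp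
          map_smul' := fun c H => by
            change coeff e.1 (sub _ (c • H.1)) = _
            rw [_root_.map_smul]
            rfl })
      (Z := {0}) smallDim_zero (by
        rw [card_par, card_Ex r d, card_FI n d]
        have : 0 < (n + d).choose d := Nat.choose_pos (by omega)
        omega)
    refine h2.mono le_rfl ?_
    rintro H ⟨a, ha⟩
    have key : ∀ (H : Form n k d) (e : Ex r d), (aeval a : MvPolynomial (Par J) k →ₐ[k] k)
        (coeff e.1 (sub (fun i l => mat J (fun p => X p) i l) H.1)) =
        coeff e.1 (sub (fun i l => mat J a i l) H.1) := by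
      intro H e
      have hM : (fun i l => (aeval a : MvPolynomial (Par J) k →ₐ[k] k) (mat J (fun p => X p) i l)) =
          fun i l => mat J a i l := by
        funext i l
        have := map_mat J (aeval a : MvPolynomial (Par J) k →ₐ[k] k).toRingHom (fun p => X p) i l
        simp only [AlgHom.toRingHom_eq_coe, RingHom.coe_coe, aeval_X] at this
        exact this
      rw [coeff_sub_map, hM]
    refine ⟨aeval a, ?_, ?_⟩
    · intro z
      obtain ⟨H, hH⟩ := surjective_coeff_sub (k := k) (d := d) J a z
      refine ⟨H, ?_⟩
      rw [← hH]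
      ext e
      exact key H e
    · rw [Set.mem_singleton_iff]
      ext e
      refine (key H e).trans ?_
      rw [ha, coeff_zero]
      rfl
  have h2 := FSmall.iUnion h1
  obtain ⟨f, hf0, hf⟩ := h2.exists_polynomial (by
    have : 0 < Fintype.card (FI n d) := by
      rw [card_FI]; exact Nat.choose_pos (by omega)
    exact_mod_cast Nat.sub_lt this one_pos)
  refine isGeneric_of_mvPolynomial (formCoords n k d) hf0 fun G hG U hU hGU => ?_
  apply hG
  apply hf
  obtain ⟨J, a, hJ⟩ := exists_mat U hU
  simp only [Set.mem_ofPred_eq, LinearEquiv.symm_apply_apply, Set.mem_iUnion]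
  refine ⟨J, a, ?_⟩
  rw [sub_eq_zero_iff]
  intro u hu
  rw [hJ] at hu
  exact hGU u hu

end K713.NoPlane
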