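import Groth.Agent.Fano.K255.PfDef
import Mathlib.LinearAlgebra.Matrix.Transvection

/-!
# The Pfaffian of a `6 × 6` skew matrix under congruence: `Pf (A m Aᵀ) = det A · Pf m`
-/

set_option autoImplicit false

universe u

namespace K713.PfCongr

open K255.Pf Matrix

variable {k : Type u} [Field k]

/-- alternating matrices -/
def Skew (m : Fin 6 → Fin 6 → k) : Prop := (∀ i j, m i j = - m j i) ∧ ∀ i, m i i = 0

theorem Skew.conj {m : Fin 6 → Fin 6 → k} (h : Skew m) (A : Matrix (Fin 6) (Fin 6) k) :
    Skew (A * Matrix.of m * Aᵀ) := by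
  have e : ∀ i j, (A * Matrix.of m * Aᵀ) i j = ∑ a, ∑ b, A i a * A j b * m a b := by
    intro i j
    rw [Matrix.mul_assoc, Matrix.mul_apply]
    refine Finset.sum_congr rfl fun a _ => ?_
    rw [Matrix.mul_apply, Finset.mul_sum]
    refine Finset.sum_congr rfl fun b _ => ?_
    rw [Matrix.transpose_apply, Matrix.of_apply]
    ring
  have hs : ∀ i j, (A * Matrix.of m * Aᵀ) i j = - (A * Matrix.of m * Aᵀ) j i := by
    intro i j
    rw [e, e, Finset.sum_comm, ← Finset.sum_neg_distrib]
    refine Finset.sum_congr rfl fun a _ => ?_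
    rw [← Finset.sum_neg_distrib]
    refine Finset.sum_congr rfl fun b _ => ?_
    rw [h.1 b a]
    ring
  refine ⟨hs, fun i => ?_⟩
  rw [e]
  -- alternating
  have h1 : ∀ a b, A i a * A i b * m a b = -(A i b * A i a * m b a) := by
    intro a b
    rw [h.1 b a]
    ring
  have h2 : (∑ a, ∑ b, A i a * A i b * m a b) =
      ∑ a, ∑ b, (if a < b then A i a * A i b * m a b else 0) +
        (∑ a, ∑ b, (if b < a then A i a * A i b * m a b else 0)) +
          ∑ a, ∑ b, (if a = b then A i a * A i b * m a b else 0) := by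
    rw [← Finset.sum_add_distrib, ← Finset.sum_add_distrib]
    refine Finset.sum_congr rfl fun a _ => ?_
    rw [← Finset.sum_add_distrib, ← Finset.sum_add_distrib]
    refine Finset.sum_congr rfl fun b _ => ?_
    rcases lt_trichotomy a b with hab | hab | hab
    · simp [hab, hab.not_gt, hab.ne]
    · subst hab; simp
    · simp [hab, hab.not_gt, hab.ne']
  rw [h2, Finset.sum_comm (f := fun a b => if b < a then A i a * A i b * m a b else 0), ← Finset.sum_add_distrib]
  have h3 : ∀ x : Fin 6, (∑ b, (if x < b then A i x * A i b * m x b else 0)) +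
      (∑ b, (if x < b then A i b * A i x * m b x else 0)) = 0 := by
    intro x
    rw [← Finset.sum_add_distrib]
    refine Finset.sum_eq_zero fun b _ => ?_
    by_cases hb : x < b
    · rw [if_pos hb, if_pos hb, h1 x b]
      ring
    · rw [if_neg hb, if_neg hb, add_zero]
  have h4 : ∑ x : Fin 6, ((∑ b, (if x < b then A i x * A i b * m x b else 0)) +
      (∑ b, (if x < b then A i b * A i x * m b x else 0))) = 0 := Finset.sum_eq_zero fun x _ => h3 x
  rw [h4, zero_add]
  refine Finset.sum_eq_zero fun a _ => Finset.sum_eq_zero fun b _ => ?_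
  by_cases hb : a = b
  · subst hb
    rw [if_pos rfl, h.2 a, mul_zero]
  · rw [if_neg hb]

theorem transv_entry (m : Fin 6 → Fin 6 → k) (i j : Fin 6) (c : k) (a b : Fin 6) :
    (transvection i j c * Matrix.of m * (transvection i j c)ᵀ) a b =
      m a b + (if a = i then c * m j b else 0) + (if b = i then c * m a j else 0) +
        (if a = i then (if b = i then c ^ 2 * m j j else 0) else 0) := by
  have h1 : ∀ (p q : Fin 6), transvection i j c p q = (if p = q then 1 else 0) + (if p = i then (if q = j then c else 0) else 0) := by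
    intro p q
    rw [transvection, Matrix.add_apply, Matrix.one_apply, Matrix.single_apply]
    congr 1
    by_cases hp : p = i
    · by_cases hq : q = j
      · simp [hp, hq]
      · simp [hp, hq, Ne.symm hq]
    · simp [hp, Ne.symm hp]
  rw [Matrix.mul_assoc, Matrix.mul_apply]
  simp only [Matrix.mul_apply, Matrix.transpose_apply, Matrix.of_apply, h1, mul_add, add_mul,
    Finset.sum_add_distrib, ite_mul, mul_ite, one_mul, mul_one, zero_mul, mul_zero,
    Finset.sum_ite_eq, Finset.sum_ite_eq', Finset.mem_univ, if_true]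
  by_cases ha : a = i <;> by_cases hb : b = i <;> simp [ha, hb] <;> ring

theorem pf6_transv {m : Fin 6 → Fin 6 → k} (h : Skew m) (i j : Fin 6) (hij : i ≠ j) (c : k) :
    pf6 (transvection i j c * Matrix.of m * (transvection i j c)ᵀ) = pf6 m := by
  have e := transv_entry m i j c
  have d := h.2
  have h10 := h.1 1 0
  have h20 := h.1 2 0
  have h30 := h.1 3 0
  have h40 := h.1 4 0
  have h50 := h.1 5 0
  have h21 := h.1 2 1
  have h31 := h.1 3 1
  have h41 := h.1 4 1
  have h51 := h.1 5 1
  have h32 := h.1 3 2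
  have h42 := h.1 4 2
  have h52 := h.1 5 2
  have h43 := h.1 4 3
  have h53 := h.1 5 3
  have h54 := h.1 5 4
  have d0 := h.2 0
  have d1 := h.2 1
  have d2 := h.2 2
  have d3 := h.2 3
  have d4 := h.2 4
  have d5 := h.2 5
  simp only [pf6, pf4, e]
  clear e d
  fin_cases i <;> fin_cases j <;> first | exact absurd rfl hij | skip
  all_goals
    simp [h10, h20, h30, h40, h50, h21, h31, h41, h51, h32, h42, h52, h43, h53, h54, d0, d1, d2, d3, d4, d5]
    try ring

theorem pf6_diag (m : Fin 6 → Fin 6 → k) (d : Fin 6 → k) :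
    pf6 (diagonal d * Matrix.of m * (diagonal d)ᵀ) = (∏ i, d i) * pf6 m := by
  have e : ∀ a b, (diagonal d * Matrix.of m * (diagonal d)ᵀ) a b = d a * m a b * d b := by
    intro a b
    rw [diagonal_transpose, mul_diagonal, diagonal_mul, Matrix.of_apply]
  simp only [pf6, pf4, e, Fin.prod_univ_six]
  ring

/-- **Congruence**: `Pf (A m Aᵀ) = det A · Pf m`. -/
theorem pf6_conj {m : Fin 6 → Fin 6 → k} (h : Skew m) (A : Matrix (Fin 6) (Fin 6) k) :
    pf6 (A * Matrix.of m * Aᵀ) = A.det * pf6 m := by
  induction A using diagonal_transvection_induction generalizing m with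
  | hdiag D hD => rw [pf6_diag, det_diagonal]
  | htransvec t =>
    rw [TransvectionStruct.det, one_mul]
    exact pf6_transv h t.i t.j t.hij t.c
  | hmul A B hA hB =>
    have h0 : (Matrix.of (B * Matrix.of m * Bᵀ) : Matrix (Fin 6) (Fin 6) k) = B * Matrix.of m * Bᵀ := rfl
    have h1 : A * B * Matrix.of m * (A * B)ᵀ = A * Matrix.of (B * Matrix.of m * Bᵀ) * Aᵀ := by
      rw [transpose_mul, h0]
      simp only [Matrix.mul_assoc]
    rw [h1, hA (h.conj B), hB h, det_mul, mul_assoc]

end K713.PfCongr
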