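import Groth.Agent.Fano.K713.PfCongr
import Groth.Agent.Fano.K714.Surf

/-!
# The derivative of the `6 × 6` Pfaffian and pencils of `2 × 2` matrices (for the jumping vectors of S16528)
-/

set_option autoImplicit false

universe u v

namespace K713.PfDer

open K255.Pf K713.PfCongr

variable {k : Type u} [Field k]

/-- Pfaffian adjoint of a skew matrix -/
def Pc (m : Fin 6 → Fin 6 → k) : Fin 6 → Fin 6 → k :=
  ![![0, pf4 m 2 3 4 5, -pf4 m 1 3 4 5, pf4 m 1 2 4 5, -pf4 m 1 2 3 5, pf4 m 1 2 3 4],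
    ![-pf4 m 2 3 4 5, 0, pf4 m 0 3 4 5, -pf4 m 0 2 4 5, pf4 m 0 2 3 5, -pf4 m 0 2 3 4],
    ![pf4 m 1 3 4 5, -pf4 m 0 3 4 5, 0, pf4 m 0 1 4 5, -pf4 m 0 1 3 5, pf4 m 0 1 3 4],
    ![-pf4 m 1 2 4 5, pf4 m 0 2 4 5, -pf4 m 0 1 4 5, 0, pf4 m 0 1 2 5, -pf4 m 0 1 2 4],
    ![pf4 m 1 2 3 5, -pf4 m 0 2 3 5, pf4 m 0 1 3 5, -pf4 m 0 1 2 5, 0, pf4 m 0 1 2 3],
    ![-pf4 m 1 2 3 4, pf4 m 0 2 3 4, -pf4 m 0 1 3 4, pf4 m 0 1 2 4, -pf4 m 0 1 2 3, 0]]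

/-- derivative of the Pfaffian at `m` in the direction `n` -/
def dpf (m n : Fin 6 → Fin 6 → k) : k :=
  n 0 1 * pf4 m 2 3 4 5 - n 0 2 * pf4 m 1 3 4 5 + n 0 3 * pf4 m 1 2 4 5 - n 0 4 * pf4 m 1 2 3 5 +
    n 0 5 * pf4 m 1 2 3 4 + n 1 2 * pf4 m 0 3 4 5 - n 1 3 * pf4 m 0 2 4 5 + n 1 4 * pf4 m 0 2 3 5 -
    n 1 5 * pf4 m 0 2 3 4 + n 2 3 * pf4 m 0 1 4 5 - n 2 4 * pf4 m 0 1 3 5 + n 2 5 * pf4 m 0 1 3 4 +
    n 3 4 * pf4 m 0 1 2 5 - n 3 5 * pf4 m 0 1 2 4 + n 4 5 * pf4 m 0 1 2 3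

theorem pf6_add (m n : Fin 6 → Fin 6 → k) (t : k) :
    pf6 (fun i j => m i j + t * n i j) = pf6 m + t * dpf m n + t ^ 2 * dpf n m + t ^ 3 * pf6 n := by
  simp only [pf6, pf4, dpf]
  ring

theorem Pc_skew (m : Fin 6 → Fin 6 → k) (i j : Fin 6) : Pc m i j = - Pc m j i := by
  fin_cases i <;> fin_cases j <;> simp [Pc]

theorem Pc_self (m : Fin 6 → Fin 6 → k) (i : Fin 6) : Pc m i i = 0 := by
  fin_cases i <;> rfl

theorem Pc_mul {m : Fin 6 → Fin 6 → k} (h : Skew m) (i j : Fin 6) :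
    ∑ l, m i l * Pc m j l = if i = j then pf6 m else 0 := by
  have h10 := h.1 1 0
  have h20 := h.1 2 0
  have h30 := h.1 3 0
  have h40 := h.1 4 0
  have h50 := h.1 5 0
  have h21 := h.1 2 1
  have h31 := h.1 3 1
  have h41 := h.1 4 1
  have h51 := h.1 5 1
  have h32 := h.1 3 2
  have h42 := h.1 4 2
  have h52 := h.1 5 2
  have h43 := h.1 4 3
  have h53 := h.1 5 3
  have h54 := h.1 5 4
  have d0 := h.2 0
  have d1 := h.2 1
  have d2 := h.2 2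
  have d3 := h.2 3
  have d4 := h.2 4
  have d5 := h.2 5
  rw [Fin.sum_univ_six]
  fin_cases i <;> fin_cases j <;>
    simp [Pc, pf4, pf6, h10, h20, h30, h40, h50, h21, h31, h41, h51, h32, h42, h52, h43, h53, h54, d0, d1, d2, d3,
      d4, d5] <;> try ring

theorem exists_Pc {m n : Fin 6 → Fin 6 → k} (h : dpf m n ≠ 0) : ∃ i j, Pc m i j ≠ 0 := by
  by_contra hc
  push Not at hc
  apply h
  have h01 : pf4 m 2 3 4 5 = 0 := hc 0 1
  have h02 : pf4 m 1 3 4 5 = 0 := neg_eq_zero.1 (hc 0 2)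
  have h03 : pf4 m 1 2 4 5 = 0 := hc 0 3
  have h04 : pf4 m 1 2 3 5 = 0 := neg_eq_zero.1 (hc 0 4)
  have h05 : pf4 m 1 2 3 4 = 0 := hc 0 5
  have h12 : pf4 m 0 3 4 5 = 0 := hc 1 2
  have h13 : pf4 m 0 2 4 5 = 0 := neg_eq_zero.1 (hc 1 3)
  have h14 : pf4 m 0 2 3 5 = 0 := hc 1 4
  have h15 : pf4 m 0 2 3 4 = 0 := neg_eq_zero.1 (hc 1 5)
  have h23 : pf4 m 0 1 4 5 = 0 := hc 2 3
  have h24 : pf4 m 0 1 3 5 = 0 := neg_eq_zero.1 (hc 2 4)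
  have h25 : pf4 m 0 1 3 4 = 0 := hc 2 5
  have h34 : pf4 m 0 1 2 5 = 0 := hc 3 4
  have h35 : pf4 m 0 1 2 4 = 0 := neg_eq_zero.1 (hc 3 5)
  have h45 : pf4 m 0 1 2 3 = 0 := hc 4 5
  rw [dpf, h01, h02, h03, h04, h05, h12, h13, h14, h15, h23, h24, h25, h34, h35, h45]
  ring

/-! ### `2 × 2` matrices -/

/-- Two `2 × 2` matrices are orthogonal to a common matrix of rank one. -/
theorem two_mat [IsAlgClosed k] (P Q : Fin 2 → Fin 2 → k) : ∃ a b c d : k, (a ≠ 0 ∨ b ≠ 0) ∧ (c ≠ 0 ∨ d ≠ 0) ∧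
    a * (P 0 0 * c + P 0 1 * d) + b * (P 1 0 * c + P 1 1 * d) = 0 ∧
    a * (Q 0 0 * c + Q 0 1 * d) + b * (Q 1 0 * c + Q 1 1 * d) = 0 := by
  obtain ⟨a, b, hab, h⟩ := K714.Surf.exists_quad_zero (P 0 0 * Q 0 1 - P 0 1 * Q 0 0)
    (P 0 0 * Q 1 1 + P 1 0 * Q 0 1 - P 0 1 * Q 1 0 - P 1 1 * Q 0 0) (P 1 0 * Q 1 1 - P 1 1 * Q 1 0)
  by_cases hP : a * P 0 0 + b * P 1 0 = 0 ∧ a * P 0 1 + b * P 1 1 = 0
  · by_cases hQ : a * Q 0 0 + b * Q 1 0 = 0 ∧ a * Q 0 1 + b * Q 1 1 = 0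
    · refine ⟨a, b, 1, 0, hab, Or.inl one_ne_zero, ?_, ?_⟩
      · linear_combination hP.1
      · linear_combination hQ.1
    · refine ⟨a, b, -(a * Q 0 1 + b * Q 1 1), a * Q 0 0 + b * Q 1 0, hab, ?_, ?_, ?_⟩
      · by_contra hc
        push Not at hc
        exact hQ ⟨hc.2, neg_eq_zero.1 hc.1⟩
      · linear_combination (-(a * Q 0 1 + b * Q 1 1)) * hP.1 + (a * Q 0 0 + b * Q 1 0) * hP.2
      · ring
  · refine ⟨a, b, -(a * P 0 1 + b * P 1 1), a * P 0 0 + b * P 1 0, hab, ?_, ?_, ?_⟩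
    · by_contra hc
      push Not at hc
      exact hP ⟨hc.2, neg_eq_zero.1 hc.1⟩
    · ring
    · linear_combination h

/-- A degenerate net of `2 × 2` matrices is orthogonal to a matrix of rank one. -/
theorem three_mat [IsAlgClosed k] [CharZero k] (P Q Y : Fin 2 → Fin 2 → k) {s t m : k} (h0 : s ≠ 0 ∨ t ≠ 0 ∨ m ≠ 0)
    (Z : Fin 2 → Fin 2 → k) (hZ : ∀ i j, Z i j = s * P i j + t * Q i j + m * Y i j)
    (hP : Z 0 0 * P 1 1 + Z 1 1 * P 0 0 - Z 0 1 * P 1 0 - Z 1 0 * P 0 1 = 0)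
    (hQ : Z 0 0 * Q 1 1 + Z 1 1 * Q 0 0 - Z 0 1 * Q 1 0 - Z 1 0 * Q 0 1 = 0)
    (hY : Z 0 0 * Y 1 1 + Z 1 1 * Y 0 0 - Z 0 1 * Y 1 0 - Z 1 0 * Y 0 1 = 0) :
    ∃ a b c d : k, (a ≠ 0 ∨ b ≠ 0) ∧ (c ≠ 0 ∨ d ≠ 0) ∧
      a * (P 0 0 * c + P 0 1 * d) + b * (P 1 0 * c + P 1 1 * d) = 0 ∧
      a * (Q 0 0 * c + Q 0 1 * d) + b * (Q 1 0 * c + Q 1 1 * d) = 0 ∧
      a * (Y 0 0 * c + Y 0 1 * d) + b * (Y 1 0 * c + Y 1 1 * d) = 0 := by
  have hdet : Z 0 0 * Z 1 1 - Z 0 1 * Z 1 0 = 0 := by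
    have h2 : 2 * (Z 0 0 * Z 1 1 - Z 0 1 * Z 1 0) = 0 := by
      have e00 := hZ 0 0
      have e01 := hZ 0 1
      have e10 := hZ 1 0
      have e11 := hZ 1 1
      linear_combination s * hP + t * hQ + m * hY + Z 0 0 * e11 + Z 1 1 * e00 - Z 0 1 * e10 - Z 1 0 * e01
    exact (mul_eq_zero.1 h2).resolve_left two_ne_zero
  by_cases z00 : Z 0 0 = 0
  · by_cases z01 : Z 0 1 = 0
    · by_cases z10 : Z 1 0 = 0
      · by_cases z11 : Z 1 1 = 0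
        · -- `Z = 0`
          have e00 := hZ 0 0
          have e01 := hZ 0 1
          have e10 := hZ 1 0
          have e11 := hZ 1 1
          rw [z00] at e00
          rw [z01] at e01
          rw [z10] at e10
          rw [z11] at e11
          rcases h0 with hs | ht | hm
          · obtain ⟨a, b, c, d, h1, h2, h3, h4⟩ := two_mat Q Y
            refine ⟨a, b, c, d, h1, h2, ?_, h3, h4⟩
            apply mul_left_cancel₀ hs
            linear_combination (-t) * h3 + (-m) * h4 - a * c * e00 - a * d * e01 - b * c * e10 - b * d * e11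
          · obtain ⟨a, b, c, d, h1, h2, h3, h4⟩ := two_mat P Y
            refine ⟨a, b, c, d, h1, h2, h3, ?_, h4⟩
            apply mul_left_cancel₀ ht
            linear_combination (-s) * h3 + (-m) * h4 - a * c * e00 - a * d * e01 - b * c * e10 - b * d * e11
          · obtain ⟨a, b, c, d, h1, h2, h3, h4⟩ := two_mat P Q
            refine ⟨a, b, c, d, h1, h2, h3, h4, ?_⟩
            apply mul_left_cancel₀ hm
            linear_combination (-s) * h3 + (-t) * h4 - a * c * e00 - a * d * e01 - b * c * e10 - b * d * e11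
        · refine ⟨Z 1 1, -Z 0 1, Z 1 1, -Z 1 0, Or.inl z11, Or.inl z11, ?_, ?_, ?_⟩
          · linear_combination Z 1 1 * hP - P 1 1 * hdet
          · linear_combination Z 1 1 * hQ - Q 1 1 * hdet
          · linear_combination Z 1 1 * hY - Y 1 1 * hdet
      · refine ⟨Z 1 0, -Z 0 0, Z 1 1, -Z 1 0, Or.inl z10, Or.inr (neg_ne_zero.2 z10), ?_, ?_, ?_⟩
        · linear_combination Z 1 0 * hP - P 1 0 * hdet
        · linear_combination Z 1 0 * hQ - Q 1 0 * hdet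
        · linear_combination Z 1 0 * hY - Y 1 0 * hdet
    · refine ⟨Z 1 1, -Z 0 1, Z 0 1, -Z 0 0, Or.inr (neg_ne_zero.2 z01), Or.inl z01, ?_, ?_, ?_⟩
      · linear_combination Z 0 1 * hP - P 0 1 * hdet
      · linear_combination Z 0 1 * hQ - Q 0 1 * hdet
      · linear_combination Z 0 1 * hY - Y 0 1 * hdet
  · refine ⟨Z 1 0, -Z 0 0, Z 0 1, -Z 0 0, Or.inr (neg_ne_zero.2 z00), Or.inr (neg_ne_zero.2 z00), ?_, ?_, ?_⟩
    · linear_combination Z 0 0 * hP - P 0 0 * hdet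
    · linear_combination Z 0 0 * hQ - Q 0 0 * hdet
    · linear_combination Z 0 0 * hY - Y 0 0 * hdet

end K713.PfDer
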