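import Groth.Agent.Fano.K713.PfDer
import Groth.Agent.Fano.K713.PfGlue
import Groth.Agent.Fano.K483.SkewR
import Groth.Agent.Fano.K714.FrIrr

/-!
# Every Pfaffian representation of a smooth cubic threefold has a jumping vector (S16528, node I1)
-/

set_option autoImplicit false

universe u

namespace K713.PfJump

open K255.Pf K713.PfCongr K713.PfDer K656.Trilin K714.Surf Module LefPen Groth.Agent.Lefpen.H703.ZOpen

variable {k : Type u} [Field k] {V W : Type u} [AddCommGroup V] [Module k V] [AddCommGroup W] [Module k W]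

/-- A linear system of alternating forms with Pfaffian `T`. -/
structure PfData (B : V →ₗ[k] W →ₗ[k] W →ₗ[k] k) (T : V →ₗ[k] V →ₗ[k] V →ₗ[k] k) : Prop where
  alt : ∀ x u, B x u u = 0
  ex : ∀ w : Fin 6 → W, LinearIndependent k w → ∃ D : k, D ≠ 0 ∧ ∀ x, pf6 (fun i j => B x (w i) (w j)) = D * T x x x

variable {B : V →ₗ[k] W →ₗ[k] W →ₗ[k] k} {T : V →ₗ[k] V →ₗ[k] V →ₗ[k] k}

theorem PfData.sk (h : PfData B T) (x : V) (u v : W) : B x u v = - B x v u := by
  have h1 := h.alt x (u + v)
  simp only [map_add, LinearMap.add_apply] at h1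
  rw [h.alt, h.alt] at h1
  linear_combination h1

theorem PfData.skew (h : PfData B T) (w : Fin 6 → W) (x : V) : Skew (fun i j => B x (w i) (w j)) :=
  ⟨fun _ _ => h.sk x _ _, fun _ => h.alt x _⟩

theorem dpf_eq [CharZero k] (hT : IsSym3 T) {w : Fin 6 → W} {D : k}
    (hD : ∀ x, pf6 (fun i j => B x (w i) (w j)) = D * T x x x) (x y : V) :
    dpf (fun i j => B x (w i) (w j)) (fun i j => B y (w i) (w j)) = 3 * D * T x x y := by
  have h1 : ∀ t : k, pf6 (fun i j => B x (w i) (w j)) + t * dpf (fun i j => B x (w i) (w j)) (fun i j => B y (w i) (w j)) +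
      t ^ 2 * dpf (fun i j => B y (w i) (w j)) (fun i j => B x (w i) (w j)) + t ^ 3 * pf6 (fun i j => B y (w i) (w j)) =
      D * (T x x x + 3 * t * T x x y + 3 * t ^ 2 * T x y y + t ^ 3 * T y y y) := by
    intro t
    rw [← pf6_add]
    have h2 := hD (x + t • y)
    rw [hT.cube_add_smul] at h2
    rw [← h2]
    congr 1
    funext i j
    simp [map_add, map_smul]
  have e1 := h1 1
  have e2 := h1 (-1)
  rw [hD x, hD y] at e1 e2
  have h3 : 2 * (dpf (fun i j => B x (w i) (w j)) (fun i j => B y (w i) (w j)) - 3 * D * T x x y) = 0 := by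
    linear_combination e1 - e2
  exact sub_eq_zero.1 ((mul_eq_zero.1 h3).resolve_left two_ne_zero)

/-- The kernel of `B p` at a smooth point of the cubic contains two independent vectors. -/
theorem exists_ker [CharZero k] (h : PfData B T) (hT : IsSym3 T) (hW : finrank k W = 6) {p : V} (hp : T p p p = 0)
    {y : V} (hy : T p p y ≠ 0) : ∃ a b : W, LinearIndependent k ![a, b] ∧ (∀ u, B p a u = 0) ∧ ∀ u, B p b u = 0 := by
  have : FiniteDimensional k W := FiniteDimensional.of_finrank_pos (by omega)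
  let w : Basis (Fin 6) k W := finBasisOfFinrankEq k W hW
  obtain ⟨D, hD0, hD⟩ := h.ex w w.linearIndependent
  have h1 := dpf_eq hT hD p y
  have h2 : dpf (fun i j => B p (w i) (w j)) (fun i j => B y (w i) (w j)) ≠ 0 := by
    rw [h1]
    exact mul_ne_zero (mul_ne_zero three_ne_zero hD0) hy
  obtain ⟨i, j, hij⟩ := exists_Pc h2
  have hker : ∀ i u, B p (∑ l, Pc (fun i j => B p (w i) (w j)) i l • w l) u = 0 := by
    intro i u
    rw [h.sk, neg_eq_zero]
    have h3 : (B p).flip (∑ l, Pc (fun i j => B p (w i) (w j)) i l • w l) = 0 := by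
      refine w.ext fun r => ?_
      rw [LinearMap.flip_apply, LinearMap.zero_apply, map_sum]
      have h4 := Pc_mul (h.skew w p) r i
      rw [hD p, hp, mul_zero, ite_self] at h4
      rw [← h4]
      refine Finset.sum_congr rfl fun l _ => ?_
      rw [map_smul, smul_eq_mul, mul_comm]
    have := LinearMap.congr_fun h3 u
    exact this
  refine ⟨_, _, ?_, hker i, hker j⟩
  rw [LinearIndependent.pair_iff]
  intro s t hst
  rw [Finset.smul_sum, Finset.smul_sum, ← Finset.sum_add_distrib] at hst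
  have h5 : ∑ l, (s * Pc (fun i j => B p (w i) (w j)) i l + t * Pc (fun i j => B p (w i) (w j)) j l) • w l = 0 := by
    rw [← hst]
    refine Finset.sum_congr rfl fun l _ => ?_
    rw [smul_smul, smul_smul, add_smul]
  have h6 := Fintype.linearIndependent_iff.1 w.linearIndependent _ h5
  have h7 := h6 j
  have h8 := h6 i
  rw [Pc_self, mul_zero, add_zero] at h7
  rw [Pc_self, mul_zero, zero_add, Pc_skew] at h8
  exact ⟨(mul_eq_zero.1 h7).resolve_right hij, (mul_eq_zero.1 h8).resolve_right (neg_ne_zero.2 hij)⟩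

/-- Common zeros of few functionals. -/
theorem exists_three {κ : W} (hκ : κ ≠ 0) {U0 : Submodule k W} [FiniteDimensional k W] (hκU : κ ∈ U0) {r : ℕ}
    (z : Fin r → V) (hU0 : r + 3 ≤ finrank k ↥U0) (hB : ∀ x, B x κ κ = 0)
    (hV : ∀ x, ∀ u ∈ U0, (∀ i, B (z i) κ u = 0) → B x κ u = 0) :
    ∃ b c, LinearIndependent k ![κ, b, c] ∧ (∀ x, B x κ b = 0) ∧ ∀ x, B x κ c = 0 := by
  let φ : ↥U0 →ₗ[k] (Fin r → k) := LinearMap.pi fun i => (B (z i) κ).comp U0.subtype
  have hK : 3 ≤ finrank k ↥(LinearMap.ker φ) := by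
    have h1 := LinearMap.finrank_range_add_finrank_ker φ
    have h2 : finrank k ↥(LinearMap.range φ) ≤ r := by
      have := Submodule.finrank_le (LinearMap.range φ)
      rwa [Module.finrank_fin_fun] at this
    omega
  let κ' : ↥(LinearMap.ker φ) := ⟨⟨κ, hκU⟩, by
    rw [LinearMap.mem_ker]
    funext i
    exact hB (z i)⟩
  have hκ' : κ' ≠ 0 := by
    intro h
    apply hκ
    exact congrArg (fun x : ↥(LinearMap.ker φ) => ((x : ↥U0) : W)) h
  obtain ⟨b, h2⟩ := exists_linearIndependent_snoc_of_lt_finrank (R := k) (v := ![κ'])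
    (LinearIndependent.of_subsingleton (v := ![κ']) 0 hκ') (by omega)
  obtain ⟨c, h3⟩ := exists_linearIndependent_snoc_of_lt_finrank (R := k) h2 (by omega)
  have hmem : ∀ u : ↥(LinearMap.ker φ), ∀ x, B x κ ((u : ↥U0) : W) = 0 := by
    intro u x
    refine hV x _ u.1.2 fun i => ?_
    exact congrFun (LinearMap.mem_ker.1 u.2) i
  refine ⟨((b : ↥U0) : W), ((c : ↥U0) : W), ?_, hmem b, hmem c⟩
  have h4 := h3.map' (U0.subtype.comp (LinearMap.ker φ).subtype) (by
    rw [LinearMap.ker_eq_bot]
    exact Subtype.val_injective.comp Subtype.val_injective)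
  have e : (![κ, ((b : ↥U0) : W), ((c : ↥U0) : W)] : Fin 3 → W) =
      ⇑(U0.subtype.comp (LinearMap.ker φ).subtype) ∘ Fin.snoc (Fin.snoc ![κ'] b) c := by
    funext i
    fin_cases i <;> rfl
  rw [e]
  exact h4

/-- **The core**: `w` is a basis of `W` whose first four vectors span a subspace isotropic for `B p`, `B q`, and `w 0`,
`w 1` are orthogonal to it for `B y`; the residual conic is degenerate. -/
theorem core [IsAlgClosed k] [CharZero k] [FiniteDimensional k W] (h : PfData B T) (hT : IsSym3 T) {p q y z₁ z₂ : V}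
    (hz : ∀ x, ∃ a b c d e : k, x = a • p + b • q + c • y + d • z₁ + e • z₂)
    {w : Fin 6 → W} (hw : LinearIndependent k w)
    (hp : ∀ i j : Fin 6, i.1 < 4 → j.1 < 4 → B p (w i) (w j) = 0)
    (hq : ∀ i j : Fin 6, i.1 < 4 → j.1 < 4 → B q (w i) (w j) = 0)
    (hy : ∀ i j : Fin 6, i.1 < 2 → j.1 < 4 → B y (w i) (w j) = 0)
    (hn : B y (w 2) (w 3) ≠ 0) {s t m : k} (h0 : s ≠ 0 ∨ t ≠ 0 ∨ m ≠ 0)
    (e1 : 2 * (s * T p p y + t * T p q y) + m * T p y y = 0)
    (e2 : 2 * (s * T p q y + t * T q q y) + m * T q y y = 0)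
    (e3 : 3 * (s * T p y y + t * T q y y) + 2 * m * T y y y = 0) :
    ∃ κ b c, LinearIndependent k ![κ, b, c] ∧ (∀ x, B x κ b = 0) ∧ ∀ x, B x κ c = 0 := by
  obtain ⟨D, hD0, hD⟩ := h.ex w hw
  -- derivatives
  have f1 : ∀ l : V, (∀ i j : Fin 6, i.1 < 4 → j.1 < 4 → B l (w i) (w j) = 0) →
      B y (w 2) (w 3) * (B l (w 0) (w 5) * B l (w 1) (w 4) - B l (w 0) (w 4) * B l (w 1) (w 5)) = 3 * D * T l l y := by
    intro l hl
    rw [← dpf_eq hT hD l y]
    simp only [dpf, pf4]
    rw [hl 0 1 (by decide) (by decide), hl 0 2 (by decide) (by decide), hl 0 3 (by decide) (by decide),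
      hl 1 2 (by decide) (by decide), hl 1 3 (by decide) (by decide), hl 2 3 (by decide) (by decide),
      hy 0 1 (by decide) (by decide), hy 0 2 (by decide) (by decide), hy 0 3 (by decide) (by decide),
      hy 1 2 (by decide) (by decide), hy 1 3 (by decide) (by decide)]
    ring
  have f2 : ∀ l : V, (∀ i j : Fin 6, i.1 < 4 → j.1 < 4 → B l (w i) (w j) = 0) →
      B y (w 2) (w 3) * (B l (w 0) (w 5) * B y (w 1) (w 4) + B y (w 0) (w 5) * B l (w 1) (w 4) -
        B l (w 0) (w 4) * B y (w 1) (w 5) - B y (w 0) (w 4) * B l (w 1) (w 5)) = 3 * D * T y y l := by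
    intro l hl
    rw [← dpf_eq hT hD y l]
    simp only [dpf, pf4]
    rw [hl 0 1 (by decide) (by decide), hl 0 2 (by decide) (by decide), hl 0 3 (by decide) (by decide),
      hl 1 2 (by decide) (by decide), hl 1 3 (by decide) (by decide), hl 2 3 (by decide) (by decide),
      hy 0 1 (by decide) (by decide), hy 0 2 (by decide) (by decide), hy 0 3 (by decide) (by decide),
      hy 1 2 (by decide) (by decide), hy 1 3 (by decide) (by decide)]
    ring
  have f3 : B y (w 2) (w 3) * (B y (w 0) (w 5) * B y (w 1) (w 4) - B y (w 0) (w 4) * B y (w 1) (w 5)) =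
      D * T y y y := by
    rw [← hD y]
    simp only [pf6, pf4]
    rw [hy 0 1 (by decide) (by decide), hy 0 2 (by decide) (by decide), hy 0 3 (by decide) (by decide),
      hy 1 2 (by decide) (by decide), hy 1 3 (by decide) (by decide)]
    ring
  have hpq : ∀ i j : Fin 6, i.1 < 4 → j.1 < 4 → B (p + q) (w i) (w j) = 0 := by
    intro i j hi hj
    rw [map_add, LinearMap.add_apply, LinearMap.add_apply, hp i j hi hj, hq i j hi hj, add_zero]
  have g1 := f1 p hp
  have g2 := f1 q hq
  have g3 := f1 (p + q) hpq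
  have g4 := f2 p hp
  have g5 := f2 q hq
  simp only [map_add, LinearMap.add_apply] at g3
  rw [hT.s12 q p y] at g3
  rw [hT.rot' y y p] at g4
  rw [hT.rot' y y q] at g5
  -- the degenerate net
  let P : Fin 2 → Fin 2 → k := ![![B p (w 0) (w 4), B p (w 0) (w 5)], ![B p (w 1) (w 4), B p (w 1) (w 5)]]
  let Q : Fin 2 → Fin 2 → k := ![![B q (w 0) (w 4), B q (w 0) (w 5)], ![B q (w 1) (w 4), B q (w 1) (w 5)]]
  let Y : Fin 2 → Fin 2 → k := ![![B y (w 0) (w 4), B y (w 0) (w 5)], ![B y (w 1) (w 4), B y (w 1) (w 5)]]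
  obtain ⟨a, b, c, d, hab, hcd, h1, h2, h3⟩ := three_mat P Q Y h0 (fun i j => s * P i j + t * Q i j + m * Y i j)
    (fun i j => rfl) (by
      apply mul_left_cancel₀ hn
      simp only [P, Q, Y, Matrix.cons_val_zero, Matrix.cons_val_one]
      linear_combination (-2 * s) * g1 - t * (g3 - g1 - g2) - m * g4 - 3 * D * e1) (by
      apply mul_left_cancel₀ hn
      simp only [P, Q, Y, Matrix.cons_val_zero, Matrix.cons_val_one]
      linear_combination (-2 * t) * g2 - s * (g3 - g1 - g2) - m * g5 - 3 * D * e2) (by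
      apply mul_left_cancel₀ hn
      simp only [P, Q, Y, Matrix.cons_val_zero, Matrix.cons_val_one]
      linear_combination (-s) * g4 - t * g5 - 2 * m * f3 - D * e3)
  simp only [P, Q, Y, Matrix.cons_val_zero, Matrix.cons_val_one] at h1 h2 h3
  -- the vectors
  let κ : W := a • w 0 + b • w 1
  let e : W := c • w 4 + d • w 5
  have hli5 : LinearIndependent k ![w 0, w 1, w 2, w 3, e] := by
    rw [Fintype.linearIndependent_iff]
    intro g hg
    rw [Fin.sum_univ_five] at hg
    have h5 : ∑ i, (![g 0, g 1, g 2, g 3, g 4 * c, g 4 * d] : Fin 6 → k) i • w i = 0 := by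
      rw [Fin.sum_univ_six]
      refine Eq.trans ?_ hg
      simp only [Matrix.cons_val, e]
      module
    have h6 := Fintype.linearIndependent_iff.1 hw _ h5
    have h60 : g 0 = 0 := h6 0
    have h61 : g 1 = 0 := h6 1
    have h62 : g 2 = 0 := h6 2
    have h63 : g 3 = 0 := h6 3
    have h64 : g 4 * c = 0 := h6 4
    have h65 : g 4 * d = 0 := h6 5
    have h66 : g 4 = 0 := by
      rcases hcd with hc | hd
      · exact (mul_eq_zero.1 h64).resolve_right hc
      · exact (mul_eq_zero.1 h65).resolve_right hd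
    intro i
    fin_cases i
    · exact h60
    · exact h61
    · exact h62
    · exact h63
    · exact h66
  let U0 : Submodule k W := Submodule.span k (Set.range ![w 0, w 1, w 2, w 3, e])
  have hU0 : finrank k ↥U0 = 5 := by
    rw [finrank_span_eq_card hli5, Fintype.card_fin]
  have hκ0 : κ ≠ 0 := by
    intro hκ
    have h5 : ∑ i, (![a, b, 0, 0, 0, 0] : Fin 6 → k) i • w i = 0 := by
      rw [Fin.sum_univ_six]
      refine Eq.trans ?_ hκ
      simp only [Matrix.cons_val, κ]
      module
    have h6 := Fintype.linearIndependent_iff.1 hw _ h5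
    rcases hab with ha | hb
    · exact ha (h6 0)
    · exact hb (h6 1)
  have hκU : κ ∈ U0 := Submodule.add_mem _ (Submodule.smul_mem _ _ (Submodule.subset_span ⟨0, rfl⟩))
    (Submodule.smul_mem _ _ (Submodule.subset_span ⟨1, rfl⟩))
  have hkill : ∀ x : V, (∀ j : Fin 6, j.1 < 4 → B x (w 0) (w j) = 0 ∧ B x (w 1) (w j) = 0) →
      a * (B x (w 0) (w 4) * c + B x (w 0) (w 5) * d) + b * (B x (w 1) (w 4) * c + B x (w 1) (w 5) * d) = 0 →
      ∀ u ∈ U0, B x κ u = 0 := by
    intro x hx hx2 u hu
    have hle : U0 ≤ LinearMap.ker (B x κ) := by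
      rw [Submodule.span_le]
      rintro _ ⟨i, rfl⟩
      rw [SetLike.mem_coe, LinearMap.mem_ker]
      have hj : ∀ j : Fin 6, j.1 < 4 → B x κ (w j) = 0 := by
        intro j hj
        simp only [κ, map_add, map_smul, LinearMap.add_apply, LinearMap.smul_apply, smul_eq_mul]
        rw [(hx j hj).1, (hx j hj).2]
        ring
      fin_cases i
      · exact hj 0 (by decide)
      · exact hj 1 (by decide)
      · exact hj 2 (by decide)
      · exact hj 3 (by decide)
      · change B x κ e = 0
        simp only [κ, e, map_add, map_smul, LinearMap.add_apply, LinearMap.smul_apply, smul_eq_mul]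
        linear_combination hx2
    exact LinearMap.mem_ker.1 (hle hu)
  have kp := hkill p (fun j hj => ⟨hp 0 j (by decide) hj, hp 1 j (by decide) hj⟩) h1
  have kq := hkill q (fun j hj => ⟨hq 0 j (by decide) hj, hq 1 j (by decide) hj⟩) h2
  have ky := hkill y (fun j hj => ⟨hy 0 j (by decide) hj, hy 1 j (by decide) hj⟩) h3
  obtain ⟨b', c', h4, h5, h6⟩ := exists_three (B := B) hκ0 hκU ![z₁, z₂] (by rw [hU0]) (fun x => h.alt x κ) (by
    intro x u hu hz0
    obtain ⟨x1, x2, x3, x4, x5, rfl⟩ := hz x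
    have h00 : B z₁ κ u = 0 := hz0 0
    have h01 : B z₂ κ u = 0 := hz0 1
    simp only [map_add, map_smul, LinearMap.add_apply, LinearMap.smul_apply, smul_eq_mul]
    rw [kp u hu, kq u hu, ky u hu, h00, h01]
    ring)
  exact ⟨κ, b', c', h4, h5, h6⟩

/-- Diagonalisation of the degenerate form `B y` on the span of `w 0, …, w 3`. -/
theorem stepE [IsAlgClosed k] [CharZero k] [FiniteDimensional k W] (h : PfData B T) (hT : IsSym3 T) {p q y z₁ z₂ : V}
    (hz : ∀ x, ∃ a b c d e : k, x = a • p + b • q + c • y + d • z₁ + e • z₂)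
    {w : Fin 6 → W} (hw : LinearIndependent k w)
    (hp : ∀ i j : Fin 6, i.1 < 4 → j.1 < 4 → B p (w i) (w j) = 0)
    (hq : ∀ i j : Fin 6, i.1 < 4 → j.1 < 4 → B q (w i) (w j) = 0)
    (hpf : B y (w 0) (w 1) * B y (w 2) (w 3) - B y (w 0) (w 2) * B y (w 1) (w 3) +
      B y (w 0) (w 3) * B y (w 1) (w 2) = 0)
    (hn : B y (w 2) (w 3) ≠ 0) {s t m : k} (h0 : s ≠ 0 ∨ t ≠ 0 ∨ m ≠ 0)
    (e1 : 2 * (s * T p p y + t * T p q y) + m * T p y y = 0)
    (e2 : 2 * (s * T p q y + t * T q q y) + m * T q y y = 0)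
    (e3 : 3 * (s * T p y y + t * T q y y) + 2 * m * T y y y = 0) :
    ∃ κ b c, LinearIndependent k ![κ, b, c] ∧ (∀ x, B x κ b = 0) ∧ ∀ x, B x κ c = 0 := by
  let α : k := B y (w 2) (w 3)
  let v0 : W := B y (w 2) (w 3) • w 0 + B y (w 3) (w 0) • w 2 - B y (w 2) (w 0) • w 3
  let v1 : W := B y (w 2) (w 3) • w 1 + B y (w 3) (w 1) • w 2 - B y (w 2) (w 1) • w 3
  have s10 := h.sk y (w 1) (w 0)
  have s20 := h.sk y (w 2) (w 0)
  have s30 := h.sk y (w 3) (w 0)
  have s21 := h.sk y (w 2) (w 1)
  have s31 := h.sk y (w 3) (w 1)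
  have s32 := h.sk y (w 3) (w 2)
  have a0 := h.alt y (w 0)
  have a1 := h.alt y (w 1)
  have a2 := h.alt y (w 2)
  have a3 := h.alt y (w 3)
  -- orthogonality
  have o0 : ∀ j : Fin 6, j.1 < 4 → B y v0 (w j) = 0 := by
    intro j hj
    fin_cases j
    · simp only [v0, Fin.zero_eta, map_add, map_sub, map_smul, LinearMap.add_apply, LinearMap.sub_apply,
        LinearMap.smul_apply, smul_eq_mul]
      rw [a0]; ring
    · simp only [v0, Fin.mk_one, map_add, map_sub, map_smul, LinearMap.add_apply, LinearMap.sub_apply,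
        LinearMap.smul_apply, smul_eq_mul]
      rw [s30, s20, s31, s21]; linear_combination hpf
    · simp only [v0, Fin.reduceFinMk, map_add, map_sub, map_smul, LinearMap.add_apply, LinearMap.sub_apply,
        LinearMap.smul_apply, smul_eq_mul]
      rw [a2, s32, s20]; ring
    · simp only [v0, Fin.reduceFinMk, map_add, map_sub, map_smul, LinearMap.add_apply, LinearMap.sub_apply,
        LinearMap.smul_apply, smul_eq_mul]
      rw [a3, s30]; ring
    · simp at hj
    · simp at hj
  have o1 : ∀ j : Fin 6, j.1 < 4 → B y v1 (w j) = 0 := by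
    intro j hj
    fin_cases j
    · simp only [v1, Fin.zero_eta, map_add, map_sub, map_smul, LinearMap.add_apply, LinearMap.sub_apply,
        LinearMap.smul_apply, smul_eq_mul]
      rw [s10, s20, s30, s31, s21]; linear_combination (-1 : k) * hpf
    · simp only [v1, Fin.mk_one, map_add, map_sub, map_smul, LinearMap.add_apply, LinearMap.sub_apply,
        LinearMap.smul_apply, smul_eq_mul]
      rw [a1]; ring
    · simp only [v1, Fin.reduceFinMk, map_add, map_sub, map_smul, LinearMap.add_apply, LinearMap.sub_apply,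
        LinearMap.smul_apply, smul_eq_mul]
      rw [a2, s32, s21]; ring
    · simp only [v1, Fin.reduceFinMk, map_add, map_sub, map_smul, LinearMap.add_apply, LinearMap.sub_apply,
        LinearMap.smul_apply, smul_eq_mul]
      rw [a3, s31]; ring
    · simp at hj
    · simp at hj
  -- the new basis
  let w' : Fin 6 → W := ![v0, v1, w 2, w 3, w 4, w 5]
  have hw' : LinearIndependent k w' := by
    rw [Fintype.linearIndependent_iff]
    intro g hg
    rw [Fin.sum_univ_six] at hg
    have h5 : ∑ i, (![g 0 * B y (w 2) (w 3), g 1 * B y (w 2) (w 3),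
        g 0 * B y (w 3) (w 0) + g 1 * B y (w 3) (w 1) + g 2, - g 0 * B y (w 2) (w 0) - g 1 * B y (w 2) (w 1) + g 3,
        g 4, g 5] : Fin 6 → k) i • w i = 0 := by
      rw [Fin.sum_univ_six]
      refine Eq.trans ?_ hg
      simp only [Matrix.cons_val, w', v0, v1]
      module
    have h6 := Fintype.linearIndependent_iff.1 hw _ h5
    have h60 : g 0 * B y (w 2) (w 3) = 0 := h6 0
    have h61 : g 1 * B y (w 2) (w 3) = 0 := h6 1
    have h62 : g 0 * B y (w 3) (w 0) + g 1 * B y (w 3) (w 1) + g 2 = 0 := h6 2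
    have h63 : - g 0 * B y (w 2) (w 0) - g 1 * B y (w 2) (w 1) + g 3 = 0 := h6 3
    have h64 : g 4 = 0 := h6 4
    have h65 : g 5 = 0 := h6 5
    have h70 := (mul_eq_zero.1 h60).resolve_right hn
    have h71 := (mul_eq_zero.1 h61).resolve_right hn
    rw [h70, h71] at h62 h63
    intro i
    fin_cases i
    · exact h70
    · exact h71
    · change g 2 = 0
      linear_combination h62
    · change g 3 = 0
      linear_combination h63
    · exact h64
    · exact h65
  -- expansions in the old basis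
  have iso : ∀ x : V, (∀ i j : Fin 6, i.1 < 4 → j.1 < 4 → B x (w i) (w j) = 0) →
      ∀ i j : Fin 6, i.1 < 4 → j.1 < 4 → B x (w' i) (w' j) = 0 := by
    intro x hx i j hi hj
    have hmem : ∀ i : Fin 6, i.1 < 4 → w' i ∈ Submodule.span k (w '' {i : Fin 6 | i.1 < 4}) := by
      intro i hi
      have m0 : ∀ j : Fin 6, j.1 < 4 → w j ∈ Submodule.span k (w '' {i : Fin 6 | i.1 < 4}) := fun j hj =>
        Submodule.subset_span ⟨j, hj, rfl⟩
      fin_cases i
      · exact Submodule.sub_mem _ (Submodule.add_mem _ (Submodule.smul_mem _ _ (m0 0 (by decide)))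
          (Submodule.smul_mem _ _ (m0 2 (by decide)))) (Submodule.smul_mem _ _ (m0 3 (by decide)))
      · exact Submodule.sub_mem _ (Submodule.add_mem _ (Submodule.smul_mem _ _ (m0 1 (by decide)))
          (Submodule.smul_mem _ _ (m0 2 (by decide)))) (Submodule.smul_mem _ _ (m0 3 (by decide)))
      · exact m0 2 (by decide)
      · exact m0 3 (by decide)
      · simp at hi
      · simp at hi
    have h1 : ∀ i : Fin 6, i.1 < 4 → ∀ u ∈ Submodule.span k (w '' {i : Fin 6 | i.1 < 4}), B x (w i) u = 0 := by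
      intro i hi u hu
      have hle : Submodule.span k (w '' {i : Fin 6 | i.1 < 4}) ≤ LinearMap.ker (B x (w i)) := by
        rw [Submodule.span_le]
        rintro _ ⟨j, hj, rfl⟩
        exact hx i j hi hj
      exact LinearMap.mem_ker.1 (hle hu)
    have h2 : ∀ u ∈ Submodule.span k (w '' {i : Fin 6 | i.1 < 4}),
        ∀ u' ∈ Submodule.span k (w '' {i : Fin 6 | i.1 < 4}), B x u u' = 0 := by
      intro u hu u' hu'
      have hle : Submodule.span k (w '' {i : Fin 6 | i.1 < 4}) ≤ LinearMap.ker ((B x).flip u') := by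
        rw [Submodule.span_le]
        rintro _ ⟨j, hj, rfl⟩
        exact h1 j hj u' hu'
      exact LinearMap.mem_ker.1 (hle hu)
    exact h2 _ (hmem i hi) _ (hmem j hj)
  have hyw : ∀ i j : Fin 6, i.1 < 2 → j.1 < 4 → B y (w' i) (w' j) = 0 := by
    intro i j hi hj
    have key : ∀ v : W, (∀ j : Fin 6, j.1 < 4 → B y v (w j) = 0) → B y v (w' j) = 0 := by
      intro v hv
      have q0 := hv 0 (by decide)
      have q1 := hv 1 (by decide)
      have q2 := hv 2 (by decide)
      have q3 := hv 3 (by decide)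
      fin_cases j
      · change B y v v0 = 0
        simp only [v0, map_add, map_sub, map_smul, smul_eq_mul]
        rw [q0, q2, q3]; ring
      · change B y v v1 = 0
        simp only [v1, map_add, map_sub, map_smul, smul_eq_mul]
        rw [q1, q2, q3]; ring
      · exact q2
      · exact q3
      · simp at hj
      · simp at hj
    fin_cases i
    · exact key v0 o0
    · exact key v1 o1
    · simp at hi
    · simp at hi
    · simp at hi
    · simp at hi
  exact core h hT hz hw' (iso p hp) (iso q hq) hyw hn h0 e1 e2 e3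

end K713.PfJump
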