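import Groth.Agent.Fano.K713.PfJump

/-!
# Every Pfaffian representation of a smooth cubic threefold has a jumping vector (S16528, node I1, conclusion)
-/

set_option autoImplicit false

universe u

namespace K713.PfJump

open K255.Pf K713.PfCongr K713.PfDer K656.Trilin K714.Surf Module LefPen Groth.Agent.Lefpen.H703.ZOpen

variable {k : Type u} [Field k]

theorem exists_ext2 {V : Type u} [AddCommGroup V] [Module k V] [FiniteDimensional k V] (hV : finrank k V = 5)
    {a b : V} (h : LinearIndependent k ![a, b]) : ∃ v : Fin 3 → V, LinearIndependent k ![a, b, v 0, v 1, v 2] := by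
  obtain ⟨c, h3⟩ := exists_linearIndependent_snoc_of_lt_finrank (R := k) h (by omega)
  obtain ⟨d, h4⟩ := exists_linearIndependent_snoc_of_lt_finrank (R := k) h3 (by omega)
  obtain ⟨e, h5⟩ := exists_linearIndependent_snoc_of_lt_finrank (R := k) h4 (by omega)
  refine ⟨![c, d, e], ?_⟩
  have e' : (![a, b, (![c, d, e] : Fin 3 → V) 0, (![c, d, e] : Fin 3 → V) 1, (![c, d, e] : Fin 3 → V) 2] : Fin 5 → V) =
      Fin.snoc (Fin.snoc (Fin.snoc ![a, b] c) d) e := by
    funext i
    fin_cases i <;> rfl
  rw [e']
  exact h5

theorem exists_coords {V : Type u} [AddCommGroup V] [Module k V] [FiniteDimensional k V] (hV : finrank k V = 5)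
    {a b c d e : V} (h : LinearIndependent k ![a, b, c, d, e]) (x : V) :
    ∃ s t u v w : k, x = s • a + t • b + u • c + v • d + w • e := by
  have h1 := h.span_eq_top_of_card_eq_finrank (by rw [hV, Fintype.card_fin])
  have hx : x ∈ Submodule.span k (Set.range ![a, b, c, d, e]) := by rw [h1]; trivial
  obtain ⟨g, hg⟩ := (Submodule.mem_span_range_iff_exists_fun k).1 hx
  rw [Fin.sum_univ_five] at hg
  exact ⟨g 0, g 1, g 2, g 3, g 4, hg.symm⟩

theorem exists_ext3 {V : Type u} [AddCommGroup V] [Module k V] [FiniteDimensional k V] (hV : finrank k V = 5)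
    {a b c : V} (h : LinearIndependent k ![a, b, c]) :
    ∃ d e : V, ∀ x, ∃ s t u v w : k, x = s • a + t • b + u • c + v • d + w • e := by
  obtain ⟨d, h4⟩ := exists_linearIndependent_snoc_of_lt_finrank (R := k) h (by omega)
  obtain ⟨e, h5⟩ := exists_linearIndependent_snoc_of_lt_finrank (R := k) h4 (by omega)
  refine ⟨d, e, exists_coords hV ?_⟩
  have e' : (![a, b, c, d, e] : Fin 5 → V) = Fin.snoc (Fin.snoc ![a, b, c] d) e := by
    funext i
    fin_cases i <;> rfl
  rw [e']
  exact h5

variable {W : Type u} [AddCommGroup W] [Module k W]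
variable {B : (Fin 5 → k) →ₗ[k] W →ₗ[k] W →ₗ[k] k} {T : (Fin 5 → k) →ₗ[k] (Fin 5 → k) →ₗ[k] (Fin 5 → k) →ₗ[k] k}

/-- the matrix of the residual conic of the plane through `p, q, y` -/
def RM (T : (Fin 5 → k) →ₗ[k] (Fin 5 → k) →ₗ[k] (Fin 5 → k) →ₗ[k] k) (p q y : Fin 5 → k) : Matrix (Fin 3) (Fin 3) k :=
  !![2 * T p p y, 2 * T p q y, T p y y; 2 * T p q y, 2 * T q q y, T q y y; 3 * T p y y, 3 * T q y y, 2 * T y y y]

theorem exists_y [IsAlgClosed k] [CharZero k] (p q : Fin 5 → k) (v : Fin 3 → (Fin 5 → k)) (w : Fin 6 → W) :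
    ∃ c : Fin 3 → k, c ≠ 0 ∧
      B (∑ i, c i • v i) (w 0) (w 1) * B (∑ i, c i • v i) (w 2) (w 3) -
        B (∑ i, c i • v i) (w 0) (w 2) * B (∑ i, c i • v i) (w 1) (w 3) +
          B (∑ i, c i • v i) (w 0) (w 3) * B (∑ i, c i • v i) (w 1) (w 2) = 0 ∧
      (RM T p q (∑ i, c i • v i)).det = 0 := by
  have hinf : Infinite k := IsAlgClosed.instInfinite
  let ι : (Fin 3 → k) →ₗ[k] (Fin 5 → k) := Fintype.linearCombination k v
  have hι : ∀ c, ι c = ∑ i, c i • v i := fun c => Fintype.linearCombination_apply k v c
  have hlin : ∀ u u' : W, IsPolyFun k (fun c : Fin 3 → k => B (ι c) u u') := fun u u' =>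
    isPolyFun_linear (k := k) (((B.flip u).flip u').comp ι)
  have hι' : IsPolyMap k (fun c => ι c) := isPolyMap_linear ι
  have hp' : IsPolyMap k (fun _ : Fin 3 → k => p) := isPolyMap_const p
  have hq' : IsPolyMap k (fun _ : Fin 3 → k => q) := isPolyMap_const q
  obtain ⟨Q1, hQ1, hQ1e⟩ := K714.TypeConst.exists_homogeneous (k := k) (N := 3) (d := 2)
    (F := fun c => B (ι c) (w 0) (w 1) * B (ι c) (w 2) (w 3) - B (ι c) (w 0) (w 2) * B (ι c) (w 1) (w 3) +
      B (ι c) (w 0) (w 3) * B (ι c) (w 1) (w 2))
    (pf_add (pf_sub (pf_mul (hlin _ _) (hlin _ _)) (pf_mul (hlin _ _) (hlin _ _))) (pf_mul (hlin _ _) (hlin _ _)))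
    (by
      intro t c
      simp only [map_smul, LinearMap.smul_apply, smul_eq_mul]
      ring)
  obtain ⟨Q2, hQ2, hQ2e⟩ := K714.TypeConst.exists_homogeneous (k := k) (N := 3) (d := 5)
    (F := fun c => (RM T p q (ι c)).det) (by
      refine isPolyFun_det fun i j => ?_
      fin_cases i <;> fin_cases j
      · exact pf_const_mul 2 (K714.TypeConst.pf_tri T hp' hp' hι')
      · exact pf_const_mul 2 (K714.TypeConst.pf_tri T hp' hq' hι')
      · exact K714.TypeConst.pf_tri T hp' hι' hι'
      · exact pf_const_mul 2 (K714.TypeConst.pf_tri T hp' hq' hι')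
      · exact pf_const_mul 2 (K714.TypeConst.pf_tri T hq' hq' hι')
      · exact K714.TypeConst.pf_tri T hq' hι' hι'
      · exact pf_const_mul 3 (K714.TypeConst.pf_tri T hp' hι' hι')
      · exact pf_const_mul 3 (K714.TypeConst.pf_tri T hq' hι' hι')
      · exact pf_const_mul 2 (K714.TypeConst.pf_tri T hι' hι' hι'))
    (by
      intro t c
      simp only [RM, Matrix.det_fin_three, map_smul, LinearMap.smul_apply, smul_eq_mul, Matrix.of_apply,
        Matrix.cons_val]
      ring)
  obtain ⟨c, hc0, hc⟩ := K714.Zeros.exists_ne_zero (k := k) (N := 3) (ι := Fin 2) (by simp)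
    ![2, 5] (fun i => by fin_cases i <;> norm_num) ![Q1, Q2] (fun i => by
      fin_cases i
      · exact hQ1
      · exact hQ2)
  refine ⟨c, hc0, ?_, ?_⟩
  · rw [← hι]
    exact (hQ1e c).trans (hc 0)
  · rw [← hι]
    exact (hQ2e c).trans (hc 1)

/-- **Existence of a jumping vector** (abstract form). -/
theorem exists_jump [IsAlgClosed k] [CharZero k] (h : PfData B T) (hT : IsSym3 T) (hsm : SmoothOn T ⊤)
    (hW : finrank k W = 6) :
    ∃ κ b c, LinearIndependent k ![κ, b, c] ∧ (∀ x, B x κ b = 0) ∧ ∀ x, B x κ c = 0 := by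
  have hfd : FiniteDimensional k W := FiniteDimensional.of_finrank_pos (by omega)
  have hV : finrank k (Fin 5 → k) = 5 := by simp
  obtain ⟨⟨p, q⟩, hli, t1, t2, t3, t4⟩ := (K714.Frames.frames_irr hT hsm).1
  simp only at hli t1 t2 t3 t4
  have hp0 : p ≠ 0 := hli.ne_zero 0
  have hq0 : q ≠ 0 := hli.ne_zero 1
  obtain ⟨yp, -, hyp⟩ := hsm p trivial hp0 t1
  obtain ⟨yq, -, hyq⟩ := hsm q trivial hq0 t4
  obtain ⟨a, b, hab, ha, hb⟩ := exists_ker h hT hW t1 hyp
  obtain ⟨c, d, hcd, hc, hd⟩ := exists_ker h hT hW t4 hyq
  obtain ⟨v, hv⟩ := exists_ext2 hV hli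
  by_cases hcase : ∃ κ : W, κ ≠ 0 ∧ (∀ u, B p κ u = 0) ∧ ∀ u, B q κ u = 0
  · -- a common kernel vector on the line
    obtain ⟨κ, hκ, hκp, hκq⟩ := hcase
    obtain ⟨b', c', h4, h5, h6⟩ := exists_three (B := B) hκ (U0 := ⊤) trivial v (by rw [finrank_top, hW])
      (fun x => h.alt x κ) (by
        intro x u _ hz0
        obtain ⟨x1, x2, x3, x4, x5, rfl⟩ := exists_coords hV hv x
        simp only [map_add, map_smul, LinearMap.add_apply, LinearMap.smul_apply, smul_eq_mul]
        rw [hκp, hκq, hz0 0, hz0 1, hz0 2]
        ring)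
    exact ⟨κ, b', c', h4, h5, h6⟩
  · -- the kernels are disjoint
    push Not at hcase
    have hli4 : LinearIndependent k ![a, b, c, d] := by
      rw [Fintype.linearIndependent_iff]
      intro g hg
      rw [Fin.sum_univ_four] at hg
      simp only [Matrix.cons_val] at hg
      have h1 : g 0 • a + g 1 • b = 0 := by
        by_contra hne
        obtain ⟨u, hu⟩ := hcase _ hne (fun u => by
          simp only [map_add, map_smul, LinearMap.add_apply, LinearMap.smul_apply, smul_eq_mul]
          rw [ha, hb]
          ring)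
        apply hu
        have e : g 0 • a + g 1 • b = -(g 2 • c + g 3 • d) := by
          rw [eq_neg_iff_add_eq_zero, ← hg]
          abel
        rw [e]
        simp only [map_neg, map_add, map_smul, LinearMap.neg_apply, LinearMap.add_apply, LinearMap.smul_apply,
          smul_eq_mul]
        rw [hc, hd]
        ring
      have h2 : g 2 • c + g 3 • d = 0 := by
        rw [← hg, h1]
        abel
      obtain ⟨g0, g1⟩ := LinearIndependent.pair_iff.1 hab _ _ h1
      obtain ⟨g2, g3⟩ := LinearIndependent.pair_iff.1 hcd _ _ h2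
      intro i
      fin_cases i
      · exact g0
      · exact g1
      · exact g2
      · exact g3
    obtain ⟨w, hw, w0, w1, w2, w3⟩ : ∃ w : Fin 6 → W, LinearIndependent k w ∧ w 0 = a ∧ w 1 = b ∧ w 2 = c ∧ w 3 = d := by
      obtain ⟨e, h5⟩ := exists_linearIndependent_snoc_of_lt_finrank (R := k) hli4 (by omega)
      obtain ⟨f, h6⟩ := exists_linearIndependent_snoc_of_lt_finrank (R := k) h5 (by omega)
      exact ⟨_, h6, rfl, rfl, rfl, rfl⟩
    obtain ⟨D, hD0, hD⟩ := h.ex w hw
    have p0 : ∀ u, B p (w 0) u = 0 := by rw [w0]; exact ha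
    have p1 : ∀ u, B p (w 1) u = 0 := by rw [w1]; exact hb
    have q2 : ∀ u, B q (w 2) u = 0 := by rw [w2]; exact hc
    have q3 : ∀ u, B q (w 3) u = 0 := by rw [w3]; exact hd
    have q2' : ∀ u, B q u (w 2) = 0 := fun u => by rw [h.sk, q2, neg_zero]
    have q3' : ∀ u, B q u (w 3) = 0 := fun u => by rw [h.sk, q3, neg_zero]
    have p0' : ∀ u, B p u (w 0) = 0 := fun u => by rw [h.sk, p0, neg_zero]
    have p1' : ∀ u, B p u (w 1) = 0 := fun u => by rw [h.sk, p1, neg_zero]
    -- `B q` vanishes on the kernel of `B p` and conversely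
    have dp : ∀ y, B y (w 0) (w 1) * pf4 (fun i j => B p (w i) (w j)) 2 3 4 5 = 3 * D * T p p y := by
      intro y
      rw [← dpf_eq hT hD p y]
      simp only [dpf, pf4]
      simp only [p0, p1]
      ring
    have dq : ∀ y, B y (w 2) (w 3) * pf4 (fun i j => B q (w i) (w j)) 0 1 4 5 = 3 * D * T q q y := by
      intro y
      rw [← dpf_eq hT hD q y]
      simp only [dpf, pf4]
      simp only [q2, q3, q2', q3']
      ring
    have q01 : B q (w 0) (w 1) = 0 := by
      have e1 := dp q
      rw [t2, mul_zero] at e1
      refine (mul_eq_zero.1 e1).resolve_right fun h0 => ?_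
      have e2 := dp yp
      rw [h0, mul_zero] at e2
      exact mul_ne_zero (mul_ne_zero three_ne_zero hD0) hyp e2.symm
    have p23 : B p (w 2) (w 3) = 0 := by
      have e1 := dq p
      rw [hT.rot' q q p, t3, mul_zero] at e1
      refine (mul_eq_zero.1 e1).resolve_right fun h0 => ?_
      have e2 := dq yq
      rw [h0, mul_zero] at e2
      exact mul_ne_zero (mul_ne_zero three_ne_zero hD0) hyq e2.symm
    have hp4 : ∀ i j : Fin 6, i.1 < 4 → j.1 < 4 → B p (w i) (w j) = 0 := by
      intro i j hi hj
      fin_cases i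
      · exact p0 _
      · exact p1 _
      · fin_cases j
        · exact p0' _
        · exact p1' _
        · exact h.alt _ _
        · exact p23
        · simp at hj
        · simp at hj
      · fin_cases j
        · exact p0' _
        · exact p1' _
        · exact (h.sk _ _ _).trans (by rw [neg_eq_zero]; exact p23)
        · exact h.alt _ _
        · simp at hj
        · simp at hj
      · simp at hi
      · simp at hi
    have hq4 : ∀ i j : Fin 6, i.1 < 4 → j.1 < 4 → B q (w i) (w j) = 0 := by
      intro i j hi hj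
      fin_cases i
      · fin_cases j
        · exact h.alt _ _
        · exact q01
        · exact q2' _
        · exact q3' _
        · simp at hj
        · simp at hj
      · fin_cases j
        · exact (h.sk _ _ _).trans (by rw [neg_eq_zero]; exact q01)
        · exact h.alt _ _
        · exact q2' _
        · exact q3' _
        · simp at hj
        · simp at hj
      · exact q2 _
      · exact q3 _
      · simp at hi
      · simp at hi
    -- the plane
    obtain ⟨c, hc0, hpf, hdet⟩ := exists_y (B := B) (T := T) p q v w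
    set y : Fin 5 → k := ∑ i, c i • v i with hy
    have hli3 : LinearIndependent k ![p, q, y] := by
      rw [Fintype.linearIndependent_iff]
      intro g hg
      rw [Fin.sum_univ_three] at hg
      simp only [Matrix.cons_val] at hg
      have h5 : ∑ i, (![g 0, g 1, g 2 * c 0, g 2 * c 1, g 2 * c 2] : Fin 5 → k) i •
          (![p, q, v 0, v 1, v 2] : Fin 5 → (Fin 5 → k)) i = 0 := by
        rw [Fin.sum_univ_five]
        refine Eq.trans ?_ hg
        simp only [Matrix.cons_val, hy, Fin.sum_univ_three]
        module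
      have h6 := Fintype.linearIndependent_iff.1 hv _ h5
      have g0 : g 0 = 0 := h6 0
      have g1 : g 1 = 0 := h6 1
      have g20 : g 2 * c 0 = 0 := h6 2
      have g21 : g 2 * c 1 = 0 := h6 3
      have g22 : g 2 * c 2 = 0 := h6 4
      have g2 : g 2 = 0 := by
        by_contra hne
        apply hc0
        funext i
        fin_cases i
        · exact (mul_eq_zero.1 g20).resolve_left hne
        · exact (mul_eq_zero.1 g21).resolve_left hne
        · exact (mul_eq_zero.1 g22).resolve_left hne
      intro i
      fin_cases i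
      · exact g0
      · exact g1
      · exact g2
    obtain ⟨z₁, z₂, hz⟩ := exists_ext3 hV hli3
    obtain ⟨g, hg0, hg⟩ := Matrix.exists_mulVec_eq_zero_iff.2 hdet
    have e1 : 2 * (g 0 * T p p y + g 1 * T p q y) + g 2 * T p y y = 0 := by
      have := congrFun hg 0
      simp only [RM, Matrix.mulVec, dotProduct, Fin.sum_univ_three, Matrix.of_apply, Matrix.cons_val,
        Pi.zero_apply] at this
      linear_combination this
    have e2 : 2 * (g 0 * T p q y + g 1 * T q q y) + g 2 * T q y y = 0 := by
      have := congrFun hg 1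
      simp only [RM, Matrix.mulVec, dotProduct, Fin.sum_univ_three, Matrix.of_apply, Matrix.cons_val,
        Pi.zero_apply] at this
      linear_combination this
    have e3 : 3 * (g 0 * T p y y + g 1 * T q y y) + 2 * g 2 * T y y y = 0 := by
      have := congrFun hg 2
      simp only [RM, Matrix.mulVec, dotProduct, Fin.sum_univ_three, Matrix.of_apply, Matrix.cons_val,
        Pi.zero_apply] at this
      linear_combination this
    have h0 : g 0 ≠ 0 ∨ g 1 ≠ 0 ∨ g 2 ≠ 0 := by
      by_contra hne
      push Not at hne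
      apply hg0
      funext i
      fin_cases i
      · exact hne.1
      · exact hne.2.1
      · exact hne.2.2
    have perm : ∀ σ : Fin 6 → Fin 6, Function.Injective σ → (∀ i : Fin 6, i.1 < 4 → (σ i).1 < 4) →
        B y (w (σ 0)) (w (σ 1)) * B y (w (σ 2)) (w (σ 3)) - B y (w (σ 0)) (w (σ 2)) * B y (w (σ 1)) (w (σ 3)) +
          B y (w (σ 0)) (w (σ 3)) * B y (w (σ 1)) (w (σ 2)) = 0 → B y (w (σ 2)) (w (σ 3)) ≠ 0 →
        ∃ κ b c, LinearIndependent k ![κ, b, c] ∧ (∀ x, B x κ b = 0) ∧ ∀ x, B x κ c = 0 := by
      intro σ hσ hσ4 hpf' hn'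
      exact stepE h hT hz (w := w ∘ σ) (hw.comp σ hσ) (fun i j hi hj => hp4 _ _ (hσ4 i hi) (hσ4 j hj))
        (fun i j hi hj => hq4 _ _ (hσ4 i hi) (hσ4 j hj)) hpf' hn' h0 e1 e2 e3
    have s10 := h.sk y (w 1) (w 0)
    have s20 := h.sk y (w 2) (w 0)
    have s30 := h.sk y (w 3) (w 0)
    have s21 := h.sk y (w 2) (w 1)
    have s31 := h.sk y (w 3) (w 1)
    have s32 := h.sk y (w 3) (w 2)
    by_cases n23 : B y (w 2) (w 3) = 0
    · by_cases n01 : B y (w 0) (w 1) = 0
      · by_cases n02 : B y (w 0) (w 2) = 0
        · by_cases n03 : B y (w 0) (w 3) = 0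
          · by_cases n12 : B y (w 1) (w 2) = 0
            · by_cases n13 : B y (w 1) (w 3) = 0
              · -- a plane on the cubic
                exfalso
                refine K483.SkewR.no_plane3 hT hsm hli3 fun r s t => ?_
                simp only [Matrix.cons_val]
                have e := hD (r • p + s • q + t • y)
                have hz0 : ∀ i j : Fin 6, i.1 < 4 → j.1 < 4 → B y (w i) (w j) = 0 →
                    B (r • p + s • q + t • y) (w i) (w j) = 0 := by
                  intro i j hi hj hij
                  simp only [map_add, map_smul, LinearMap.add_apply, LinearMap.smul_apply, smul_eq_mul]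
                  rw [hp4 i j hi hj, hq4 i j hi hj, hij]
                  ring
                have e' : pf6 (fun i j => B (r • p + s • q + t • y) (w i) (w j)) = 0 := by
                  simp only [pf6, pf4]
                  rw [hz0 0 1 (by decide) (by decide) n01, hz0 0 2 (by decide) (by decide) n02,
                    hz0 0 3 (by decide) (by decide) n03, hz0 1 2 (by decide) (by decide) n12,
                    hz0 1 3 (by decide) (by decide) n13, hz0 2 3 (by decide) (by decide) n23]
                  ring
                rw [e'] at e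
                exact (mul_eq_zero.1 e.symm).resolve_left hD0
              · exact perm ![0, 2, 1, 3, 4, 5] (by decide) (by decide) (by
                  simp only [Matrix.cons_val]
                  rw [s21]
                  linear_combination (-1 : k) * hpf) n13
            · exact perm ![0, 3, 1, 2, 4, 5] (by decide) (by decide) (by
                simp only [Matrix.cons_val]
                rw [s31, s32]
                linear_combination hpf) n12
          · exact perm ![1, 2, 0, 3, 4, 5] (by decide) (by decide) (by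
              simp only [Matrix.cons_val]
              rw [s10, s20]
              linear_combination hpf) n03
        · exact perm ![1, 3, 0, 2, 4, 5] (by decide) (by decide) (by
            simp only [Matrix.cons_val]
            rw [s10, s30, s32]
            linear_combination (-1 : k) * hpf) n02
      · exact perm ![2, 3, 0, 1, 4, 5] (by decide) (by decide) (by
          simp only [Matrix.cons_val]
          rw [s20, s31, s21, s30]
          linear_combination hpf) n01
    · exact perm id Function.injective_id (fun i hi => hi) hpf n23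

end K713.PfJump
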