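import Groth.Agent.Fano.K713.Count
import Mathlib.RingTheory.AlgebraicIndependent.TranscendenceBasis
import Mathlib.LinearAlgebra.FiniteDimensional.Lemmas

/-!
# Hilbert function of a prime ideal: lower bound by the transcendence degree
-/

set_option autoImplicit false

namespace K713.PrimeForms

open MvPolynomial Module

theorem exists_algebraicIndependent {k : Type*} [Field k] {N r : ℕ} (P : Ideal (MvPolynomial (Fin N) k))
    [P.IsPrime] (hr : Algebra.trdeg k (MvPolynomial (Fin N) k ⧸ P) = r) :
    ∃ e : Fin r → Fin N, AlgebraicIndependent k fun j => Ideal.Quotient.mk P (X (e j)) := by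
  set s : Set (MvPolynomial (Fin N) k ⧸ P) := Set.range fun i => Ideal.Quotient.mk P (X i) with hs
  have htop : Algebra.adjoin k s = ⊤ := by
    have h1 := congrArg (Subalgebra.map (Ideal.Quotient.mkₐ k P)) (MvPolynomial.adjoin_range_X (R := k) (σ := Fin N))
    rw [AlgHom.map_adjoin, Algebra.map_top, (AlgHom.range_eq_top _).2 Ideal.Quotient.mk_surjective] at h1
    rw [hs, ← h1]
    congr 1
    ext x
    simp
  have : Algebra.IsAlgebraic (Algebra.adjoin k s) (MvPolynomial (Fin N) k ⧸ P) := by
    constructor
    intro x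
    have hx : x ∈ Algebra.adjoin k s := htop ▸ Algebra.mem_top
    exact isAlgebraic_algebraMap (⟨x, hx⟩ : Algebra.adjoin k s)
  have hfs : @FaithfulSMul k (MvPolynomial (Fin N) k ⧸ P) Algebra.toSMul :=
    (faithfulSMul_iff_algebraMap_injective _ _).mpr (algebraMap k _).injective
  obtain ⟨t, hts, ht⟩ := exists_isTranscendenceBasis_subset (R := k) s
  have hc := ht.cardinalMk_eq_trdeg
  rw [hr] at hc
  obtain ⟨f⟩ := Cardinal.eq.1 (hc.trans (by simp : (r : Cardinal) = Cardinal.mk (ULift (Fin r))))
  have hsel : ∀ a : t, ∃ i : Fin N, Ideal.Quotient.mk P (X i) = a.1 := fun a => hts a.2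
  choose g hg using hsel
  refine ⟨fun j => g (f.symm ⟨j⟩), ?_⟩
  have h2 := ht.1.comp (fun j : Fin r => f.symm ⟨j⟩) (fun a b h => by
    simpa using h)
  convert h2 using 1
  ext j
  exact hg _

theorem choose_add_finrank_le {k : Type*} [Field k] {N r : ℕ} (P : Ideal (MvPolynomial (Fin N) k))
    [P.IsPrime] (hr : Algebra.trdeg k (MvPolynomial (Fin N) k ⧸ P) = r) (d : ℕ) :
    (r + d - 1).choose d + finrank k ↥(homogeneousSubmodule (Fin N) k d ⊓ Submodule.restrictScalars k P) ≤
      finrank k (homogeneousSubmodule (Fin N) k d) := by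
  obtain ⟨e, he⟩ := exists_algebraicIndependent P hr
  let ψ : homogeneousSubmodule (Fin N) k d →ₗ[k] (MvPolynomial (Fin N) k ⧸ P) :=
    (Ideal.Quotient.mkₐ k P).toLinearMap ∘ₗ (homogeneousSubmodule (Fin N) k d).subtype
  have hker : (LinearMap.ker ψ).map (homogeneousSubmodule (Fin N) k d).subtype =
      homogeneousSubmodule (Fin N) k d ⊓ Submodule.restrictScalars k P := by
    ext x
    simp only [Submodule.mem_map, LinearMap.mem_ker, Submodule.subtype_apply, Subtype.exists,
      exists_and_right, exists_eq_right, Submodule.mem_inf, Submodule.restrictScalars_mem]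
    constructor
    · rintro ⟨h1, h2⟩
      exact ⟨h1, Ideal.Quotient.eq_zero_iff_mem.1 h2⟩
    · rintro ⟨h1, h2⟩
      exact ⟨h1, Ideal.Quotient.eq_zero_iff_mem.2 h2⟩
  have h1 := LinearMap.finrank_range_add_finrank_ker ψ
  rw [← hker, Submodule.finrank_map_subtype_eq, ← h1, Nat.add_comm _ (finrank k (LinearMap.ker ψ)),
    Nat.add_comm _ (finrank k (LinearMap.ker ψ))]
  refine Nat.add_le_add_left ?_ _
  -- the image contains the forms in algebraically independent variables
  let φ : homogeneousSubmodule (Fin r) k d →ₗ[k] (MvPolynomial (Fin N) k ⧸ P) :=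
    (aeval (R := k) fun j => Ideal.Quotient.mk P (X (e j))).toLinearMap ∘ₗ (homogeneousSubmodule (Fin r) k d).subtype
  have hφ : Function.Injective φ := by
    have h2 : Function.Injective (aeval (R := k) fun j => Ideal.Quotient.mk P (X (e j))) := he
    exact h2.comp Subtype.val_injective
  have hle : LinearMap.range φ ≤ LinearMap.range ψ := by
    rintro _ ⟨⟨x, hx⟩, rfl⟩
    refine ⟨⟨rename e x, ?_⟩, ?_⟩
    · rw [mem_homogeneousSubmodule] at hx ⊢
      exact hx.rename_isHomogeneous
    · change Ideal.Quotient.mk P (rename e x) = aeval (R := k) (fun j => Ideal.Quotient.mk P (X (e j))) x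
      have h3 : (aeval (R := k) fun j => Ideal.Quotient.mk P (X (e j))) =
          (Ideal.Quotient.mkₐ k P).comp (rename e) := by
        ext j
        simp
      rw [h3]
      rfl
  rw [← Count.finrank_homogeneous k r d, ← LinearMap.finrank_range_of_inj hφ]
  have : Module.Finite k (LinearMap.range ψ) := inferInstance
  exact Submodule.finrank_mono hle

end K713.PrimeForms
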